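import Groth.Agent.Lib.CanonMod.SerreTwo
import Groth.Agent.Lib.CMBasics.Basic
import Groth.Agent.Lib.FiniteQuot.DepthDescent
import Groth.Agent.Lib.Depth.Reduce

/-! Connectedness in codimension one under `(S_2)`. -/

set_option linter.style.haveILetI false

universe u

open IsLocalRing
open scoped Pointwise

namespace GrothLib.CanonMod

theorem eq_bot_or_eq_bot_of_two_le_depth {A : Type u} [CommRing A] [IsNoetherianRing A] [IsLocalRing A]
    (h2 : 2 ≤ LocCoh.depth A A) (a b : Ideal A) (hab : ∀ x ∈ a, ∀ y ∈ b, x * y = 0)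
    (hrad : ∀ q : Ideal A, q.IsPrime → a ⊔ b ≤ q → maximalIdeal A ≤ q) : a = ⊥ ∨ b = ⊥ := by
  have avoid : ∀ (M : Type u) [AddCommGroup M] [Module A M] [Module.Finite A M],
      LocCoh.depth A M ≠ 0 → ∃ x ∈ a ⊔ b, IsSMulRegular M x := by
    intro M _ _ _ hd
    by_contra hcon
    push Not at hcon
    have hfin := associatedPrimes.finite A M
    have hsub : ((a ⊔ b : Ideal A) : Set A) ⊆ ⋃ q ∈ (hfin.toFinset : Set (Ideal A)), (q : Set A) := fun x hx => by
      rw [Set.Finite.coe_toFinset]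
      by_contra hxU
      exact hcon x hx (isSMulRegular_of_forall_notMem fun q hq hxq => hxU (Set.mem_iUnion₂.2 ⟨q, hq, hxq⟩))
    obtain ⟨q, hq, hle⟩ := (Ideal.subset_union_prime (R := A) (f := id) ⊤ ⊤
      (fun i hi _ _ => ((hfin.mem_toFinset.1 hi).isPrime))).1 hsub
    have hq' := hfin.mem_toFinset.1 hq
    refine hd (GrothLib.CMBasics.depth_eq_zero_iff.2 ?_)
    rwa [← le_antisymm (hrad q hq'.isPrime hle) (le_maximalIdeal hq'.isPrime.ne_top)] at hq'
  have hd0 : LocCoh.depth A A ≠ 0 := fun h => by rw [h] at h2; simp at h2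
  obtain ⟨x, hx, hxr⟩ := avoid A hd0
  by_cases hxu : IsUnit x
  · obtain ⟨α, hα, β, hβ, hxe⟩ := Submodule.mem_sup.1 hx
    rcases (IsLocalRing.isUnit_or_isUnit_of_isUnit_add (hxe ▸ hxu : IsUnit (α + β))) with hu | hu
    · right
      exact (Submodule.eq_bot_iff _).2 fun y hy => (hu.mul_right_eq_zero).1 (hab α hα y hy)
    · left
      exact (Submodule.eq_bot_iff _).2 fun y hy => (hu.mul_left_eq_zero).1 (hab y hy β hβ)
  have hd1 : LocCoh.depth A (QuotSMulTop x A) ≠ 0 := fun h => by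
    have h1 := GrothLib.Depth.idealDepth_quotSMulTop_add_one (maximalIdeal A) (M := A)
      ((IsLocalRing.mem_maximalIdeal x).2 hxu) hxr
    change LocCoh.depth A (QuotSMulTop x A) + 1 = LocCoh.depth A A at h1
    rw [h, zero_add] at h1
    rw [← h1] at h2
    exact absurd h2 (by decide)
  obtain ⟨y, hy, hyr⟩ := avoid (QuotSMulTop x A) hd1
  obtain ⟨α₁, hα₁, β₁, hβ₁, hx'⟩ := Submodule.mem_sup.1 hx
  obtain ⟨α₂, hα₂, β₂, hβ₂, hy'⟩ := Submodule.mem_sup.1 hy
  have h12 : y * α₁ = x * α₂ := by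
    rw [← hx', ← hy', add_mul, add_mul, mul_comm β₂, hab α₁ hα₁ β₂ hβ₂, mul_comm β₁, hab α₂ hα₂ β₁ hβ₁]
    ring
  have hdiv := isSMulRegular_iff_right_eq_zero_of_smul.1 hyr (Submodule.Quotient.mk α₁) (by
    rw [← Submodule.Quotient.mk_smul, Submodule.Quotient.mk_eq_zero, smul_eq_mul, h12]
    exact Submodule.smul_mem_pointwise_smul α₂ x ⊤ Submodule.mem_top)
  rw [Submodule.Quotient.mk_eq_zero, Submodule.mem_smul_pointwise_iff_exists] at hdiv
  obtain ⟨c, -, hc⟩ := hdiv
  rw [smul_eq_mul] at hc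
  have hxne : ∀ z : A, x * z = 0 → z = 0 := fun z hz => isSMulRegular_iff_right_eq_zero_of_smul.1 hxr z hz
  have hidem : c * c - c = 0 := by
    refine hxne _ (hxne _ ?_)
    have h : (x * c) * β₁ = 0 := by rw [hc]; exact hab α₁ hα₁ β₁ hβ₁
    have hx1 : x * c + β₁ = x := by rw [hc]; exact hx'
    linear_combination -h + (x * c) * hx1
  rcases (IsLocalRing.isUnit_or_isUnit_one_sub_self c) with hu | hu
  · have hc1 : c = 1 := by
      have h : c * (c - 1) = 0 := by rw [mul_sub, mul_one]; exact hidem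
      exact sub_eq_zero.1 ((hu.mul_right_eq_zero).1 h)
    right
    have hxa : x ∈ a := by
      have h : x = α₁ := by rw [← hc, hc1, mul_one]
      exact h ▸ hα₁
    exact (Submodule.eq_bot_iff _).2 fun z hz => hxne z (hab x hxa z hz)
  · have hc0 : c = 0 := by
      have h : (1 - c) * c = 0 := by rw [sub_mul, one_mul, ← neg_sub, hidem, neg_zero]
      exact (hu.mul_right_eq_zero).1 h
    left
    have hxb : x ∈ b := by
      have h : x = β₁ := by rw [← hx', ← hc, hc0, mul_zero, zero_add]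
      exact h ▸ hβ₁
    exact (Submodule.eq_bot_iff _).2 fun z hz => hxne z (by rw [mul_comm]; exact hab z hz x hxb)

variable {R : Type u} [CommRing R] [IsNoetherianRing R]

/-- Under `(S_2)` there are no embedded primes. -/
theorem height_eq_zero_of_hasSk (hS : LocCoh.HasSk 2 R R) {Q : Ideal R} (hQ : Q ∈ associatedPrimes R R) :
    Q.height = 0 := by
  haveI := hQ.isPrime
  by_contra h0
  have h1 := hS Q
  rw [GrothLib.FiniteQuot.supportDim_localizedModule_self, ← WithBot.coe_natCast, ← WithBot.coe_min,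
    WithBot.coe_le_coe, GrothLib.FiniteQuot.depth_localizedModule_self Q (Localization.AtPrime Q)] at h1
  haveI : IsNoetherianRing (Localization.AtPrime Q) := IsLocalization.isNoetherianRing Q.primeCompl _ inferInstance
  have h2 : LocCoh.depth (Localization.AtPrime Q) (Localization.AtPrime Q) = 0 := by
    rw [GrothLib.CMBasics.depth_eq_zero_iff]
    refine Module.associatedPrimes.mem_associatedPrimes_of_comap_mem_associatedPrimes_of_isLocalizedModule
      Q.primeCompl (Algebra.linearMap R (Localization.AtPrime Q)) _ ?_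
    rw [show Ideal.comap (algebraMap R (Localization.AtPrime Q)) (maximalIdeal (Localization.AtPrime Q)) = Q from
      IsLocalization.AtPrime.under_maximalIdeal (Localization.AtPrime Q) Q]
    exact hQ
  rw [h2, nonpos_iff_eq_zero, min_eq_iff] at h1
  rcases h1 with ⟨h3, -⟩ | ⟨h3, -⟩
  · simp at h3
  · exact h0 h3

theorem height_eq_one_of_split (hS : LocCoh.HasSk 2 R R) (P1 P2 : Set (Ideal R)) (hP : P1 ∪ P2 = minimalPrimes R)
    (hdisj : Disjoint P1 P2) (a b : Ideal R) (ha : ∀ r : R, r ∈ a ↔ ∀ p ∈ P1, ∃ s : R, s ∉ p ∧ s * r = 0)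
    (hb : ∀ r : R, r ∈ b ↔ ∀ p ∈ P2, ∃ s : R, s ∉ p ∧ s * r = 0) (P : Ideal R) (hPmin : P ∈ (a ⊔ b).minimalPrimes) :
    P.height = 1 := by
  classical
  haveI := hPmin.1.1
  have hfin : (minimalPrimes R).Finite := minimalPrimes.finite_of_isNoetherianRing R
  -- `a` is contained in no minimal prime outside `P1`
  have sep : ∀ (Q : Set (Ideal R)) (c : Ideal R), Q ⊆ minimalPrimes R →
      (∀ r : R, r ∈ c ↔ ∀ p ∈ Q, ∃ s : R, s ∉ p ∧ s * r = 0) → ∀ q : Ideal R, q.IsPrime → (∀ p ∈ Q, ¬ p ≤ q) → ¬ c ≤ q := by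
    intro Q c hQ hc q hq hqQ hcq
    haveI := hq
    have hQf : Q.Finite := hfin.subset hQ
    have hex : ∀ p ∈ Q, ∃ t : R, t ∉ q ∧ ∃ s : R, s ∉ p ∧ s * t = 0 := by
      intro p hp
      haveI := (hQ hp).1.1
      obtain ⟨t, htp, htq⟩ := SetLike.not_le_iff_exists.1 (hqQ p hp)
      have hnil : IsNilpotent (algebraMap R (Localization.AtPrime p) t) := by
        haveI : Ring.KrullDimLE 0 (Localization.AtPrime p) := Ring.krullDimLE_iff.2 (by
          rw [IsLocalization.AtPrime.ringKrullDim_eq_height p, Ideal.height_eq_zero_iff.2 (hQ hp)]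
          simp)
        rw [Ring.KrullDimLE.isNilpotent_iff_mem_maximalIdeal]
        exact (IsLocalization.AtPrime.to_map_mem_maximal_iff (Localization.AtPrime p) p t).2 htp
      obtain ⟨k, hk⟩ := hnil
      rw [← map_pow, IsLocalization.map_eq_zero_iff p.primeCompl] at hk
      obtain ⟨s, hs⟩ := hk
      exact ⟨t ^ k, fun h => htq (Ideal.IsPrime.mem_of_pow_mem ‹_› k h), s.1, s.2, hs⟩
    choose t ht s hs hst using hex
    have hmem : (∏ p ∈ hQf.toFinset.attach, t p.1 (hQf.mem_toFinset.1 p.2)) ∈ c := by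
      refine (hc _).2 fun p hp => ⟨s p hp, hs p hp, ?_⟩
      obtain ⟨d, hd⟩ := Finset.dvd_prod_of_mem (fun p : {x // x ∈ hQf.toFinset} => t p.1 (hQf.mem_toFinset.1 p.2))
        (Finset.mem_attach _ ⟨p, hQf.mem_toFinset.2 hp⟩)
      rw [hd, ← mul_assoc, hst p hp, zero_mul]
    obtain ⟨p, -, hp⟩ := (Ideal.IsPrime.prod_mem_iff (p := q)).1 (hcq hmem)
    exact ht _ _ hp
  have hne : ∀ q ∈ minimalPrimes R, ∀ p ∈ minimalPrimes R, p ≠ q → ¬ p ≤ q :=
    fun q hq p hp hpq hle => hpq (le_antisymm hle (hq.2 hp.1 hle))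
  have hs1 : P1 ⊆ minimalPrimes R := hP ▸ Set.subset_union_left
  have hs2 : P2 ⊆ minimalPrimes R := hP ▸ Set.subset_union_right
  have sa : ∀ q ∈ P2, ¬ a ≤ q := fun q hq => sep P1 a hs1 ha q (hs2 hq).1.1 fun p hp =>
    hne q (hs2 hq) p (hs1 hp) fun e => Set.disjoint_left.1 hdisj hp (e ▸ hq)
  have sb : ∀ q ∈ P1, ¬ b ≤ q := fun q hq => sep P2 b hs2 hb q (hs1 hq).1.1 fun p hp =>
    hne q (hs1 hq) p (hs2 hp) fun e => Set.disjoint_left.1 hdisj hq (e ▸ hp)
  -- `P` is not minimal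
  have hle1 : ∀ q ∈ minimalPrimes R, ¬ a ⊔ b ≤ q := fun q hq hle => by
    rcases (hP.symm ▸ hq : q ∈ P1 ∪ P2) with h | h
    · exact sb q h (le_sup_right.trans hle)
    · exact sa q h (le_sup_left.trans hle)
  have hab : ∀ x ∈ a, ∀ y ∈ b, x * y = 0 := by
    intro x hx y hy
    by_contra hne
    obtain ⟨Q, hQ, hle⟩ := exists_le_isAssociatedPrime_of_isNoetherianRing R _ hne
    haveI := hQ.isPrime
    have hQmin := Ideal.height_eq_zero_iff.1 (height_eq_zero_of_hasSk hS hQ)
    obtain ⟨s, hsQ, hs⟩ : ∃ s, s ∉ Q ∧ s * (x * y) = 0 := by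
      rcases (hP.symm ▸ hQmin : Q ∈ P1 ∪ P2) with h | h
      · obtain ⟨s, h1, h2⟩ := (ha x).1 hx Q h
        exact ⟨s, h1, by rw [← mul_assoc, h2, zero_mul]⟩
      · obtain ⟨s, h1, h2⟩ := (hb y).1 hy Q h
        exact ⟨s, h1, by rw [mul_left_comm, h2, mul_zero]⟩
    exact hsQ (hle (Submodule.mem_colon_singleton.2 ((Submodule.mem_bot R).2 hs)))
  have h0 : P.height ≠ 0 := fun h => hle1 P (Ideal.height_eq_zero_iff.1 h) hPmin.1.2
  refine le_antisymm ?_ (Order.one_le_iff_ne_zero.2 h0)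
  by_contra hh
  have hht : (2 : ℕ∞) ≤ P.height := Order.add_one_le_of_lt (not_le.1 hh)
  have hd2 := hS P
  rw [GrothLib.FiniteQuot.supportDim_localizedModule_self, ← WithBot.coe_natCast, ← WithBot.coe_min,
    WithBot.coe_le_coe, GrothLib.FiniteQuot.depth_localizedModule_self P (Localization.AtPrime P),
    min_eq_left (by exact_mod_cast hht)] at hd2
  haveI : IsNoetherianRing (Localization.AtPrime P) := IsLocalization.isNoetherianRing P.primeCompl _ inferInstance
  let φ := algebraMap R (Localization.AtPrime P)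
  rcases eq_bot_or_eq_bot_of_two_le_depth (by exact_mod_cast hd2) (a.map φ) (b.map φ) (fun x hx y hy => by
      have h : a.map φ * b.map φ ≤ ⊥ := by
        rw [← Ideal.map_mul]
        refine Ideal.map_le_iff_le_comap.2 (Ideal.mul_le.2 fun r hr s hs => ?_)
        show φ (r * s) ∈ (⊥ : Ideal _)
        rw [hab r hr s hs, map_zero]
        exact zero_mem _
      exact h (Ideal.mul_mem_mul hx hy)) (fun q hq hle => by
      haveI := hq
      have hqP : q.comap φ ≤ P := fun r hr => by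
        by_contra hrP
        exact hq.ne_top (Ideal.eq_top_of_isUnit_mem _ hr
          (IsLocalization.map_units (Localization.AtPrime P) (⟨r, hrP⟩ : P.primeCompl)))
      rw [← Ideal.map_sup] at hle
      have hPq : P ≤ q.comap φ := hPmin.2 ⟨hq.comap φ, Ideal.map_le_iff_le_comap.1 hle⟩ hqP
      rw [← Localization.AtPrime.map_eq_maximalIdeal]
      exact Ideal.map_le_iff_le_comap.2 hPq) with h | h
  · obtain ⟨q, hq, hqP⟩ : ∃ q ∈ P2, q ≤ P := by
      by_contra hcon
      push Not at hcon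
      exact sep P2 b hs2 hb P inferInstance hcon (le_sup_right.trans hPmin.1.2)
    refine sa q hq fun r hr => ?_
    obtain ⟨s, hs⟩ := (IsLocalization.map_eq_zero_iff P.primeCompl (Localization.AtPrime P) r).1
      ((Submodule.eq_bot_iff _).1 h _ (Ideal.mem_map_of_mem φ hr))
    exact ((hs2 hq).1.1.mem_or_mem (show s.1 * r ∈ q by rw [hs]; exact zero_mem q)).resolve_left fun hc => s.2 (hqP hc)
  · obtain ⟨q, hq, hqP⟩ : ∃ q ∈ P1, q ≤ P := by
      by_contra hcon
      push Not at hcon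
      exact sep P1 a hs1 ha P inferInstance hcon (le_sup_left.trans hPmin.1.2)
    refine sb q hq fun r hr => ?_
    obtain ⟨s, hs⟩ := (IsLocalization.map_eq_zero_iff P.primeCompl (Localization.AtPrime P) r).1
      ((Submodule.eq_bot_iff _).1 h _ (Ideal.mem_map_of_mem φ hr))
    exact ((hs1 hq).1.1.mem_or_mem (show s.1 * r ∈ q by rw [hs]; exact zero_mem q)).resolve_left fun hc => s.2 (hqP hc)

end GrothLib.CanonMod
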