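import Groth.Agent.Lib.CanonMod.Duality
import Groth.Agent.Lib.Depth.CM
import Groth.Agent.Lib.LC.Torsion
import Groth.Agent.Lib.Depth.Local
import Groth.Agent.Lib.AffDom.Formula
import Groth.Agent.Lib.Serre.Regular

/-!
# Canonical modules of Cohen–Macaulay local rings
-/

universe u

open CategoryTheory Abelian

namespace GrothLib.CanonMod

variable {R : Type u} [CommRing R] [LocCoh.IsCohenMacaulayLocalRing R]
variable {K : Type u} [AddCommGroup K] [Module R K]
variable {E : Type u} [AddCommGroup E] [Module R E]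
variable {n : ℕ} {f : IsLocalRing.ResidueField R →ₗ[R] E}

local notation "𝔪" => IsLocalRing.maximalIdeal R

theorem cm_le_idealDepth (hn : ringKrullDim R = n) : (n : ℕ∞) ≤ LocCoh.idealDepth 𝔪 R := by
  have h := LocCoh.IsCohenMacaulayLocalRing.supportDim_eq_depth (R := R)
  rw [Module.supportDim_self_eq_ringKrullDim, hn] at h
  have h' : (n : ℕ∞) = LocCoh.depth R R := by exact_mod_cast h
  exact h'.le

theorem not_subsingleton_ext_top (hn : ringKrullDim R = n) (hf : InjHull.IsInjectiveHull f)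
    (eK : (K →ₗ[R] E) ≃ₗ[R] LocCoh.H 𝔪 n R) :
    ¬ Subsingleton (Ext (ModuleCat.of R (R ⧸ 𝔪)) (ModuleCat.of R K) n) := by
  intro h
  obtain ⟨e⟩ := local_duality hn hf (cm_le_idealDepth hn) eK n (ModuleCat.of R (R ⧸ 𝔪)) le_rfl
  rw [Nat.sub_self] at e
  have hsub : Subsingleton (Ext (ModuleCat.of R (R ⧸ 𝔪)) (ModuleCat.of R K) n →ₗ[R] E) :=
    ⟨fun a b => LinearMap.ext fun x => by rw [Subsingleton.elim x 0, map_zero, map_zero]⟩
  have h0 := e.injective.subsingleton
  have hmem : (Ideal.Quotient.mk 𝔪 1) ∈ DRing.torsionSub 𝔪 (ModuleCat.of R (R ⧸ 𝔪)) :=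
    ⟨1, fun a ha => by
      rw [pow_one] at ha
      show Ideal.Quotient.mk 𝔪 (a * 1) = 0
      rw [mul_one]; exact Ideal.Quotient.eq_zero_iff_mem.2 ha⟩
  have h1 := congrArg Subtype.val ((GrothLib.LC.torsionEquiv 𝔪 (ModuleCat.of R (R ⧸ 𝔪))).injective
    (Subsingleton.elim (GrothLib.LC.torsionEquiv 𝔪 _ ⟨_, hmem⟩) (GrothLib.LC.torsionEquiv 𝔪 _ 0)))
  exact (IsLocalRing.maximalIdeal.isMaximal R).ne_top
    ((Ideal.eq_top_iff_one _).2 (Ideal.Quotient.eq_zero_iff_mem.1 h1))

theorem hasInjectiveDimensionLT (hn : ringKrullDim R = n) (hf : InjHull.IsInjectiveHull f)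
    (eK : (K →ₗ[R] E) ≃ₗ[R] LocCoh.H 𝔪 n R) :
    HasInjectiveDimensionLT (ModuleCat.of R K) (n + 1) :=
  GrothLib.Serre.hasInjectiveDimensionLT_of_cyclic n (ModuleCat.of R K) fun I =>
    subsingleton_ext_above hn hf (cm_le_idealDepth hn) eK 0 (ModuleCat.of R (R ⧸ I))

theorem le_depth (hn : ringKrullDim R = n) (hf : InjHull.IsInjectiveHull f) [Module.Finite R K]
    (eK : (K →ₗ[R] E) ≃ₗ[R] LocCoh.H 𝔪 n R) : (n : ℕ∞) ≤ LocCoh.depth R K := by
  refine (GrothLib.Depth.le_idealDepth_iff_ext 𝔪 n).2 fun i hi => ?_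
  obtain ⟨e⟩ := local_duality hn hf (cm_le_idealDepth hn) eK i (ModuleCat.of R (R ⧸ 𝔪)) hi.le
  have : Subsingleton ((localCohomology 𝔪 (n - i)).obj (ModuleCat.of R (R ⧸ 𝔪))) := by
    obtain ⟨p, hp⟩ : ∃ p, n - i = p + 1 := ⟨n - i - 1, by omega⟩
    rw [hp]
    refine GrothLib.LC.subsingleton_of_isPowerTorsion 𝔪 p _ fun x => ⟨1, fun a ha => ?_⟩
    rw [pow_one] at ha
    obtain ⟨x, rfl⟩ := Ideal.Quotient.mk_surjective x
    exact Ideal.Quotient.eq_zero_iff_mem.2 (Ideal.mul_mem_right _ _ ha)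
  exact subsingleton_ext_of_dual hf e.symm.injective.subsingleton

theorem isCohenMacaulayModule (hn : ringKrullDim R = n) (hf : InjHull.IsInjectiveHull f) [Module.Finite R K]
    (eK : (K →ₗ[R] E) ≃ₗ[R] LocCoh.H 𝔪 n R) :
    LocCoh.IsCohenMacaulayModule R K ∧ Module.supportDim R K = n := by
  haveI : Nontrivial K := by
    by_contra h
    haveI := not_nontrivial_iff_subsingleton.1 h
    exact not_subsingleton_ext_top hn hf eK
      (GrothLib.Depth.ext_subsingleton_of_smul_top_eq_top 𝔪 (Subsingleton.elim _ _) n)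
  have h1 : Module.supportDim R K ≤ n := hn ▸ Module.supportDim_le_ringKrullDim R K
  have h2 := GrothLib.Depth.depth_le_supportDim R K
  have h3 : ((n : ℕ∞) : WithBot ℕ∞) ≤ ((LocCoh.depth R K : ℕ∞) : WithBot ℕ∞) :=
    WithBot.coe_le_coe.2 (le_depth hn hf eK)
  have h4 : Module.supportDim R K = n := le_antisymm h1 (h3.trans h2)
  exact ⟨le_antisymm (h1.trans h3) h2, h4⟩

section Dim

theorem exists_prime_dim_quotient {A : Type*} [CommRing A] (I : Ideal A) {d : ℕ}
    (hd : (d : WithBot ℕ∞) ≤ ringKrullDim (A ⧸ I)) :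
    ∃ p : Ideal A, p.IsPrime ∧ I ≤ p ∧ (d : WithBot ℕ∞) ≤ ringKrullDim (A ⧸ p) := by
  obtain ⟨l, hl⟩ := Order.le_krullDim_iff.1 hd
  refine ⟨l.head.asIdeal.comap (Ideal.Quotient.mk I), inferInstance, fun x hx => ?_, ?_⟩
  · show Ideal.Quotient.mk I x ∈ l.head.asIdeal
    rw [Ideal.Quotient.eq_zero_iff_mem.2 hx]
    exact zero_mem _
  · refine le_trans ?_ (ringKrullDim_le_of_surjective
      (Ideal.Quotient.lift (l.head.asIdeal.comap (Ideal.Quotient.mk I))
        ((Ideal.Quotient.mk l.head.asIdeal).comp (Ideal.Quotient.mk I))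
        fun x hx => Ideal.Quotient.eq_zero_iff_mem.2 hx)
      (Ideal.Quotient.lift_surjective_of_surjective _ _
        (Ideal.Quotient.mk_surjective.comp Ideal.Quotient.mk_surjective)))
    rw [GrothLib.AffDom.ringKrullDim_quotient_eq_coheight l.head]
    refine WithBot.coe_le_coe.2 (le_trans ?_ (Order.length_le_coheight le_rfl (p := l)))
    rw [hl]

theorem height_add_dim_quotient (I : Ideal R) (hI : I ≠ ⊤) {g d n : ℕ} (hg : I.height = g)
    (hd : ringKrullDim (R ⧸ I) = d) (hn : ringKrullDim R = n) : g + d = n := by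
  have hR : LocCoh.IsCohenMacaulayModule R R := LocCoh.IsCohenMacaulayLocalRing.supportDim_eq_depth
  obtain ⟨t, ht⟩ := ENat.ne_top_iff_exists.1 (GrothLib.Depth.idealDepth_ne_top (M := R) hI)
  have h := GrothLib.Depth.supportDim_eq_add_idealDepth t hI R hR ht.symm
  rw [smul_eq_mul, Ideal.mul_top, Module.supportDim_quotient_eq_ringKrullDim,
    Module.supportDim_self_eq_ringKrullDim, hd, hn] at h
  have h' : n = d + t := by exact_mod_cast h
  obtain ⟨p, hp, hIp, hdp⟩ := exists_prime_dim_quotient I hd.ge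
  have hp' := GrothLib.AffDom.height_add_ringKrullDim_quotient_le p
  have hgp : g + d ≤ n := by
    have h1 : ((g : ℕ∞) : WithBot ℕ∞) + (d : WithBot ℕ∞) ≤ n := by
      rw [← hn]
      refine le_trans (add_le_add ?_ hdp) hp'
      rw [← hg]
      exact WithBot.coe_le_coe.2 (Ideal.height_mono hIp)
    exact_mod_cast h1
  have htg : t ≤ g := by
    haveI := hp
    obtain ⟨q, hq⟩ := Ideal.nonempty_minimalPrimes hI
    have h2 : (t : ℕ∞) ≤ I.height := by
      rw [ht, Ideal.height_eq_inf_minimalPrimes]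
      refine le_iInf₂ fun q hq => ?_
      haveI := hq.1.1
      refine (GrothLib.Depth.idealDepth_le_localization (M := R) I q hq.1.2).trans ?_
      rw [GrothLib.Depth.depth_localization_self]
      have h3 := GrothLib.Depth.depth_le_supportDim (Localization.AtPrime q) (Localization.AtPrime q)
      rw [Module.supportDim_self_eq_ringKrullDim,
        IsLocalization.AtPrime.ringKrullDim_eq_height q (Localization.AtPrime q)] at h3
      exact WithBot.coe_le_coe.1 h3
    rw [hg] at h2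
    exact_mod_cast h2
  omega

end Dim

end GrothLib.CanonMod
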