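import Groth.Agent.Lib.CanonMod.Duality
import Groth.Agent.Lib.LC.TopNonzero
import Groth.Agent.Lib.LC.Vanish
import Groth.Agent.Lib.Depth.Ischebeck

/-!
# Associated primes of a canonical module
-/

universe u

open CategoryTheory

namespace GrothLib.CanonMod

variable {R : Type u} [CommRing R] [IsNoetherianRing R] [IsLocalRing R]
variable {K : Type u} [AddCommGroup K] [Module R K]
variable {E : Type u} [AddCommGroup E] [Module R E]
variable {n : ℕ} {f : IsLocalRing.ResidueField R →ₗ[R] E}

local notation "𝔪" => IsLocalRing.maximalIdeal R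

theorem dim_quotient_eq_of_hom_ne_zero (hn : ringKrullDim R = n) (hf : InjHull.IsInjectiveHull f)
    (eK : (K →ₗ[R] E) ≃ₗ[R] LocCoh.H 𝔪 n R) {q : Ideal R} {v : K} (hv : v ≠ 0)
    (hq : ∀ a ∈ q, a • v = 0) : ringKrullDim (R ⧸ q) = n := by
  refine le_antisymm (hn ▸ ringKrullDim_le_of_surjective _ (Ideal.Quotient.mk_surjective (I := q))) ?_
  by_contra hlt
  haveI := GrothLib.LC.subsingleton_of_supportDim_lt n R 𝔪 (R ⧸ q) (by
    rw [Module.supportDim_quotient_eq_ringKrullDim]; exact not_le.1 hlt)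
  have e := topDual (cdLE_maximal hn) eK hf.isInjective (ModuleCat.of R (R ⧸ q))
  haveI := subsingleton_ext_of_dual hf e.symm.injective.subsingleton
  refine hv ?_
  have := LinearMap.congr_fun (Subsingleton.elim (Submodule.liftQ q (LinearMap.toSpanSingleton R K v) hq) 0)
    (Submodule.Quotient.mk 1)
  exact (one_smul R v).symm.trans this

theorem mem_associatedPrimes_iff [Module.Finite R K] (hn : ringKrullDim R = n)
    (hf : InjHull.IsInjectiveHull f) (eK : (K →ₗ[R] E) ≃ₗ[R] LocCoh.H 𝔪 n R) (p : Ideal R) :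
    p ∈ associatedPrimes R K ↔ p.IsPrime ∧ ringKrullDim (R ⧸ p) = n := by
  constructor
  · intro hp
    obtain ⟨hp', v, rfl⟩ := isAssociatedPrime_iff.1 hp
    refine ⟨hp', dim_quotient_eq_of_hom_ne_zero hn hf eK (v := v) (fun h => hp'.ne_top ?_) fun a ha => ?_⟩
    · simp [h]
    · simpa [Submodule.mem_colon_singleton] using ha
  · rintro ⟨hp, hd⟩
    have hne : ∃ φ : (R ⧸ p) →ₗ[R] K, φ ≠ 0 := by
      by_contra h
      push Not at h
      haveI : Subsingleton ((R ⧸ p) →ₗ[R] K) := ⟨fun a b => (h a).trans (h b).symm⟩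
      have e := topDual (cdLE_maximal hn) eK hf.isInjective (ModuleCat.of R (R ⧸ p))
      haveI : Nontrivial ((localCohomology 𝔪 n).obj (ModuleCat.of R (R ⧸ p))) :=
        (GrothLib.LC.not_finite_and_nontrivial_H_maximal n (R ⧸ p)
          ((Module.supportDim_quotient_eq_ringKrullDim p).trans hd)).1
      haveI : Subsingleton (((R ⧸ p) →ₗ[R] K) →ₗ[R] E) :=
        ⟨fun a b => LinearMap.ext fun x => by rw [Subsingleton.elim x 0, map_zero, map_zero]⟩
      exact not_subsingleton _ e.injective.subsingleton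
    obtain ⟨φ, hφ⟩ := hne
    let v := φ (Submodule.Quotient.mk 1)
    have hv : v ≠ 0 := fun h => hφ (Submodule.linearMap_qext _ (LinearMap.ext_ring h))
    have hpv : ∀ a ∈ p, a • v = 0 := fun a ha => by
      rw [← map_smul, ← Submodule.Quotient.mk_smul, smul_eq_mul, mul_one,
        (Submodule.Quotient.mk_eq_zero p).2 ha, map_zero]
    obtain ⟨q, hq, hle⟩ := exists_le_isAssociatedPrime_of_isNoetherianRing R v hv
    have hpq : p ≤ q := fun a ha => hle (Submodule.mem_colon_singleton.2 ((Submodule.mem_bot R).2 (hpv a ha)))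
    obtain ⟨hq', w, hw⟩ := isAssociatedPrime_iff.1 hq
    have hdq : ringKrullDim (R ⧸ q) = n := by
      refine dim_quotient_eq_of_hom_ne_zero hn hf eK (v := w) (fun h => hq'.ne_top (by simp [hw, h]))
        fun a ha => ?_
      rw [hw, Submodule.mem_colon_singleton, Submodule.mem_bot] at ha
      exact ha
    rcases eq_or_lt_of_le hpq with rfl | hlt
    · exact hq
    obtain ⟨x, hxq, hxp⟩ := SetLike.exists_of_lt hlt
    haveI := hp
    have h1 := GrothLib.Depth.ringKrullDim_quotient_sup_span_add_one_le p hxp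
    have hle' : p ⊔ Ideal.span {x} ≤ q := sup_le hpq ((Ideal.span_singleton_le_iff_mem q).2 hxq)
    have h2 : (n : WithBot ℕ∞) ≤ ringKrullDim (R ⧸ (p ⊔ Ideal.span {x})) :=
      hdq ▸ ringKrullDim_le_of_surjective (Ideal.Quotient.factor hle') (Ideal.Quotient.factor_surjective hle')
    have h3 : ((n + 1 : ℕ) : WithBot ℕ∞) ≤ (n : ℕ) := by
      push_cast
      calc (n : WithBot ℕ∞) + 1 ≤ _ + 1 := by gcongr
        _ ≤ _ := h1
        _ = n := hd
    exact absurd (by exact_mod_cast h3 : n + 1 ≤ n) (by omega)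

end GrothLib.CanonMod
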