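import Groth.Agent.Lib.LC.RightExact
import Groth.Agent.Lib.LC.Compare
import Groth.Agent.Lib.InjMod.Matlis
import Groth.Agent.Lib.Faltings.ProjKiller

/-!
# Duality with a canonical module
-/

universe u

open CategoryTheory Limits Opposite Abelian TensorProduct

namespace GrothLib.CanonMod

variable {R : Type u} [CommRing R]
variable (K : Type u) [AddCommGroup K] [Module R K]
variable (E : Type u) [AddCommGroup E] [Module R E]

/-- `Hom(K, E) ⊗ M → Hom(Hom(M, K), E)`. -/
noncomputable def tensorDual (M : Type u) [AddCommGroup M] [Module R M] :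
    (K →ₗ[R] E) ⊗[R] M →ₗ[R] ((M →ₗ[R] K) →ₗ[R] E) :=
  TensorProduct.lift
    (LinearMap.mk₂ R (fun ψ m => ψ.comp (LinearMap.applyₗ m))
      (fun _ _ _ => rfl) (fun _ _ _ => rfl)
      (fun ψ m m' => LinearMap.ext fun φ => by simp) (fun r ψ m => LinearMap.ext fun φ => by simp))

@[simp] theorem tensorDual_tmul (M : Type u) [AddCommGroup M] [Module R M] (ψ : K →ₗ[R] E) (m : M)
    (φ : M →ₗ[R] K) : tensorDual (R := R) K E M (ψ ⊗ₜ m) φ = ψ (φ m) := rfl

theorem tensorDual_naturality {M N : Type u} [AddCommGroup M] [Module R M] [AddCommGroup N] [Module R N]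
    (g : M →ₗ[R] N) (z : (K →ₗ[R] E) ⊗[R] M) :
    tensorDual (R := R) K E N (g.lTensor _ z) = (tensorDual (R := R) K E M z).comp (g.lcomp R K) := by
  induction z using TensorProduct.induction_on with
  | zero => simp
  | tmul ψ m => rfl
  | add x y hx hy => rw [map_add, map_add, hx, hy, map_add, LinearMap.add_comp]

theorem tensorDual_bijective_pi (r : ℕ) : Function.Bijective (tensorDual (R := R) K E (Fin r → R)) := by
  classical
  have h2 : ∀ (z : (K →ₗ[R] E) ⊗[R] (Fin r → R)) (i : Fin r) (k : K),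
      tensorDual (R := R) K E (Fin r → R) z ((LinearMap.proj i).smulRight k) =
        TensorProduct.piScalarRight R R (K →ₗ[R] E) (Fin r) z i k := by
    intro z i k
    induction z using TensorProduct.induction_on with
    | zero => simp
    | tmul ψ m => simp
    | add x y hx hy => simp [hx, hy]
  refine ⟨(injective_iff_map_eq_zero _).2 fun z hz => ?_, fun χ => ?_⟩
  · refine (TensorProduct.piScalarRight R R (K →ₗ[R] E) (Fin r)).injective ?_
    refine funext fun i => LinearMap.ext fun k => ?_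
    rw [map_zero, ← h2 z i k, hz]
    rfl
  · refine ⟨∑ i, (χ.comp (LinearMap.smulRightₗ (R := R) (LinearMap.proj (R := R) (φ := fun _ => R) i))) ⊗ₜ
      Pi.single i 1, LinearMap.ext fun φ => ?_⟩
    simp only [map_sum, LinearMap.sum_apply, tensorDual_tmul, LinearMap.comp_apply]
    rw [← map_sum]
    congr 1
    refine LinearMap.ext fun v => ?_
    simp only [LinearMap.sum_apply, LinearMap.smulRightₗ_apply_apply, LinearMap.proj_apply]
    conv_rhs => rw [pi_eq_sum_univ' v, map_sum]
    simp [LinearMap.map_smul]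

variable {K E} [IsNoetherianRing R]

theorem tensorDual_bijective (hE : Module.Injective R E) (M : Type u) [AddCommGroup M] [Module R M]
    [Module.Finite R M] : Function.Bijective (tensorDual (R := R) K E M) := by
  obtain ⟨r, f, hf⟩ := Module.Finite.exists_fin' R M
  obtain ⟨s, g, hg⟩ := Module.Finite.exists_fin' R (LinearMap.ker f)
  let g' : (Fin s → R) →ₗ[R] (Fin r → R) := (LinearMap.ker f).subtype.comp g
  have hex : Function.Exact g' f := by
    rw [LinearMap.exact_iff, LinearMap.range_comp, LinearMap.range_eq_top.2 hg, Submodule.map_top,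
      Submodule.range_subtype]
  have hT := lTensor_exact (K →ₗ[R] E) hex hf
  refine ⟨(injective_iff_map_eq_zero _).2 fun z hz => ?_, fun χ => ?_⟩
  · obtain ⟨w, rfl⟩ := LinearMap.lTensor_surjective (K →ₗ[R] E) hf z
    rw [tensorDual_naturality] at hz
    -- factor through the quotient by `Hom(M, K)`
    have hker : LinearMap.ker (g'.lcomp R K) ≤ LinearMap.ker (tensorDual (R := R) K E (Fin r → R) w) := by
      intro φ hφ
      obtain ⟨ψ, rfl⟩ : ∃ ψ : M →ₗ[R] K, ψ.comp f = φ := by
        have hle : LinearMap.ker f ≤ LinearMap.ker φ := by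
          intro v hv
          obtain ⟨x, rfl⟩ := (hex v).1 hv
          exact LinearMap.congr_fun hφ x
        refine ⟨((LinearMap.ker f).liftQ φ hle).comp (f.quotKerEquivOfSurjective hf).symm.toLinearMap,
          LinearMap.ext fun v => ?_⟩
        simp only [LinearMap.comp_apply, LinearEquiv.coe_toLinearMap]
        rw [show (f.quotKerEquivOfSurjective hf).symm (f v) = Submodule.Quotient.mk v from
          (LinearEquiv.symm_apply_eq _).2 rfl, Submodule.liftQ_apply]
      exact LinearMap.congr_fun hz ψ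
    let β : (_ ⧸ LinearMap.ker (g'.lcomp R K)) →ₗ[R] E := (LinearMap.ker (g'.lcomp R K)).liftQ _ hker
    let j : (_ ⧸ LinearMap.ker (g'.lcomp R K)) →ₗ[R] ((Fin s → R) →ₗ[R] K) :=
      (LinearMap.ker (g'.lcomp R K)).liftQ (g'.lcomp R K) le_rfl
    obtain ⟨γ, hγ⟩ := hE.out j (LinearMap.ker_eq_bot.1 (Submodule.ker_liftQ_eq_bot _ _ _ le_rfl)) β
    obtain ⟨u, hu⟩ := (tensorDual_bijective_pi K E s).2 γ
    refine (hT w).2 ⟨u, (tensorDual_bijective_pi K E r).1 ?_⟩
    rw [tensorDual_naturality, hu]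
    exact LinearMap.ext fun φ => hγ (Submodule.Quotient.mk φ)
  · obtain ⟨χ', hχ'⟩ := hE.out (f.lcomp R K) (fun a b hab => LinearMap.ext fun m => by
      obtain ⟨v, rfl⟩ := hf m; exact LinearMap.congr_fun hab v) χ
    obtain ⟨w, hw⟩ := (tensorDual_bijective_pi K E r).2 χ'
    refine ⟨f.lTensor _ w, ?_⟩
    rw [tensorDual_naturality, hw]
    exact LinearMap.ext fun φ => hχ' φ

section Top

variable {I : Ideal R} {n : ℕ}

/-- The duality map in top degree. -/
noncomputable def topDual (hcd : LocCoh.CdLE R I n) (eK : (K →ₗ[R] E) ≃ₗ[R] LocCoh.H I n R)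
    (hE : Module.Injective R E) (M : ModuleCat.{u} R) [Module.Finite R M] :
    (localCohomology I n).obj M ≃ₗ[R] ((M →ₗ[R] K) →ₗ[R] E) :=
  ((GrothLib.LC.topEquiv I n hcd M).symm.trans
    (TensorProduct.congr eK.symm (LinearEquiv.refl R M))).trans
    (LinearEquiv.ofBijective _ (tensorDual_bijective hE M))

theorem topDual_naturality (hcd : LocCoh.CdLE R I n) (eK : (K →ₗ[R] E) ≃ₗ[R] LocCoh.H I n R)
    (hE : Module.Injective R E) {M N : ModuleCat.{u} R} [Module.Finite R M] [Module.Finite R N]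
    (g : M ⟶ N) (x : (localCohomology I n).obj M) :
    topDual hcd eK hE N ((localCohomology I n).map g x) =
      (topDual hcd eK hE M x).comp (g.hom.lcomp R K) := by
  obtain ⟨z, rfl⟩ := (GrothLib.LC.topEquiv I n hcd M).surjective x
  have e : (localCohomology I n).map g (GrothLib.LC.topEquiv I n hcd M z) =
      GrothLib.LC.topEquiv I n hcd N (g.hom.lTensor _ z) := GrothLib.LC.topTensor_naturality I n g z
  rw [e]
  simp only [topDual, LinearEquiv.trans_apply, LinearEquiv.symm_apply_apply, LinearEquiv.ofBijective_apply]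
  rw [← tensorDual_naturality]
  congr 1
  clear e
  induction z using TensorProduct.induction_on with
  | zero => simp
  | tmul h m => rfl
  | add a b ha hb => rw [map_add, map_add, ha, hb, map_add, map_add]

end Top

section Ext

theorem subsingleton_ext_of_dual {M : Type u} [AddCommGroup M] [Module R M] [IsLocalRing R]
    {f : IsLocalRing.ResidueField R →ₗ[R] E} (hf : InjHull.IsInjectiveHull f)
    (h : Subsingleton (M →ₗ[R] E)) : Subsingleton M :=
  ⟨fun a b => GrothLib.Matlis.applyₗ_injective hf M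
    (LinearMap.ext fun φ => by rw [Subsingleton.elim φ 0]; simp)⟩

variable {M N : ModuleCat.{u} R}

/-- Restriction along a map, on duals. -/
noncomputable def extDelta {S : ShortComplex (ModuleCat.{u} R)} (hS : S.ShortExact) (L : ModuleCat.{u} R)
    (i j : ℕ) (h : 1 + i = j) : Ext S.X₁ L i →ₗ[R] Ext S.X₃ L j where
  toFun a := hS.extClass.comp a h
  map_add' a b := Ext.comp_add _ _ _ _
  map_smul' r a := Ext.comp_smul _ _ _ _

end Ext

section CM

variable [IsLocalRing R]

local notation "𝔪" => IsLocalRing.maximalIdeal R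

theorem cdLE_maximal {n : ℕ} (hn : ringKrullDim R = n) : LocCoh.CdLE R 𝔪 n :=
  GrothLib.LC.cdLE_dim 𝔪 n hn.le

/-- The kernel-free short exact sequence of a finite presentation step. -/
theorem exists_pres (M : ModuleCat.{u} R) [Module.Finite R M] :
    ∃ (r : ℕ) (S : ShortComplex (ModuleCat.{u} R)), S.ShortExact ∧ S.X₂ = ModuleCat.of R (Fin r → R) ∧
      Module.Finite R S.X₁ ∧ Module.Finite R S.X₂ ∧ S.X₃ = M ∧ Projective S.X₂ := by
  obtain ⟨r, f, hf⟩ := Module.Finite.exists_fin' R M
  exact ⟨r, f.shortComplexKer, LinearMap.shortExact_shortComplexKer hf, rfl,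
    inferInstanceAs (Module.Finite R (LinearMap.ker f)), inferInstanceAs (Module.Finite R (Fin r → R)), rfl,
    ModuleCat.projective_of_categoryTheory_projective (R := R) _⟩

variable {f : IsLocalRing.ResidueField R →ₗ[R] E} {n : ℕ}

theorem dual_quot_equiv {A B : Type u} [AddCommGroup A] [Module R A] [AddCommGroup B] [Module R B]
    {C : Type u} [AddCommGroup C] [Module R C] (p : A →ₗ[R] B) (q : B →ₗ[R] C)
    (hq : Function.Surjective q) (hpq : Function.Exact p q) :
    Nonempty ((C →ₗ[R] E) ≃ₗ[R] LinearMap.ker (p.lcomp R E)) := by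
  refine ⟨LinearEquiv.ofBijective ((q.lcomp R E).codRestrict _ fun χ => LinearMap.ext fun a =>
    show χ (q (p a)) = 0 by rw [hpq.apply_apply_eq_zero, map_zero]) ⟨fun χ χ' h => ?_, fun ψ => ?_⟩⟩
  · refine LinearMap.ext fun c => ?_
    obtain ⟨b, rfl⟩ := hq c
    exact LinearMap.congr_fun (congrArg Subtype.val h) b
  · have hle : LinearMap.ker q ≤ LinearMap.ker ψ.1 := by
      intro b hb
      obtain ⟨a, rfl⟩ := (hpq b).1 hb
      exact LinearMap.congr_fun ψ.2 a
    refine ⟨((LinearMap.ker q).liftQ ψ.1 hle).comp (q.quotKerEquivOfSurjective hq).symm.toLinearMap,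
      Subtype.ext (LinearMap.ext fun b => ?_)⟩
    show (LinearMap.ker q).liftQ ψ.1 hle ((q.quotKerEquivOfSurjective hq).symm (q b)) = ψ.1 b
    rw [show (q.quotKerEquivOfSurjective hq).symm (q b) = Submodule.Quotient.mk b from
      (LinearEquiv.symm_apply_eq _).2 rfl, Submodule.liftQ_apply]

/-- Local duality with a canonical module over a Cohen–Macaulay ring. -/
theorem local_duality (hn : ringKrullDim R = n) (hf : InjHull.IsInjectiveHull f)
    (hdepth : (n : ℕ∞) ≤ LocCoh.idealDepth 𝔪 R)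
    (eK : (K →ₗ[R] E) ≃ₗ[R] LocCoh.H 𝔪 n R) :
    ∀ (i : ℕ) (M : ModuleCat.{u} R) [Module.Finite R M], i ≤ n →
      Nonempty ((localCohomology 𝔪 (n - i)).obj M ≃ₗ[R] (Ext M (ModuleCat.of R K) i →ₗ[R] E)) := by
  intro i
  induction i with
  | zero =>
    intro M _ _
    exact ⟨(topDual (cdLE_maximal hn) eK hf.isInjective M).trans
      (LinearEquiv.congrLeft E R ((Ext.linearEquiv₀ (R := R)).trans ModuleCat.homLinearEquiv).symm)⟩
  | succ i ih =>
    intro M _ hi
    obtain ⟨r, S, hS, hS2, hf1, hf2, rfl, hproj⟩ := exists_pres M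
    haveI := hf1; haveI := hf2; haveI := hproj
    have hF : ∀ j, j < n → Subsingleton ((localCohomology 𝔪 j).obj S.X₂) := by
      intro j hj
      rw [hS2]
      exact GrothLib.Faltings.subsingleton_H_pi 𝔪 j r (lt_of_lt_of_le (by exact_mod_cast hj) hdepth)
    let L := ModuleCat.of R K
    let D := extDelta hS L i (i + 1) (by omega)
    have hD : Function.Surjective D := fun x =>
      Ext.contravariant_sequence_exact₃ hS L x (Subsingleton.elim (h := Ext.subsingleton_of_projective S.X₂ L i) _ _)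
        (by omega)
    have hker : ∀ x, D x = 0 → ∃ y, (Ext.mk₀ S.f).comp y (zero_add i) = x := fun x hx =>
      Ext.contravariant_sequence_exact₁ hS L x (by omega) hx
    rcases Nat.eq_zero_or_pos i with rfl | hi0
    · have hinj : Function.Injective (GrothLib.LC.δ 𝔪 hS (n - 1)) := by
        refine (injective_iff_map_eq_zero _).2 fun x hx => ?_
        obtain ⟨y, rfl⟩ := GrothLib.LC.exists_of_δ_eq_zero 𝔪 hS (n - 1) hx
        rw [(hF (n - 1) (by omega)).elim y 0, map_zero]
      have hn1 : n - 1 + 1 = n := by omega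
      let p : (S.X₂ →ₗ[R] K) →ₗ[R] (S.X₁ →ₗ[R] K) := S.f.hom.lcomp R K
      let e0 : (S.X₁ →ₗ[R] K) ≃ₗ[R] Ext S.X₁ L 0 :=
        ((Ext.linearEquiv₀ (R := R)).trans (ModuleCat.homLinearEquiv (S := R) (M := S.X₁) (N := L))).symm
      let q : (S.X₁ →ₗ[R] K) →ₗ[R] Ext S.X₃ L 1 := D ∘ₗ e0.toLinearMap
      have hq : Function.Surjective q := fun x => by
        obtain ⟨y, hy⟩ := hD x
        obtain ⟨φ, hφ⟩ := e0.surjective y
        exact ⟨φ, (congrArg D hφ).trans hy⟩
      have hsymm : ∀ {X : ModuleCat.{u} R} (φ : X →ₗ[R] K),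
          ((Ext.linearEquiv₀ (R := R)).trans (ModuleCat.homLinearEquiv (S := R) (M := X) (N := L))).symm φ =
            Ext.mk₀ (ModuleCat.ofHom φ) := fun φ => rfl
      have hpq : Function.Exact p q := by
        intro φ
        constructor
        · intro hφ
          obtain ⟨y, hy⟩ := hker _ hφ
          refine ⟨((Ext.linearEquiv₀ (R := R)) y).hom, ?_⟩
          have hy' : Ext.mk₀ (S.f ≫ (Ext.linearEquiv₀ (R := R)) y) = Ext.mk₀ (ModuleCat.ofHom φ) := by
            rw [← Ext.mk₀_comp_mk₀, Ext.mk₀_linearEquiv₀_apply, hy]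
            exact hsymm φ
          exact congrArg ModuleCat.Hom.hom (Ext.addEquiv₀.symm.injective hy')
        · rintro ⟨ψ, rfl⟩
          show hS.extClass.comp (e0 (p ψ)) (show 1 + 0 = 0 + 1 from rfl) = 0
          rw [show e0 (p ψ) = (Ext.mk₀ S.f).comp (Ext.mk₀ (ModuleCat.ofHom ψ : S.X₂ ⟶ L)) (zero_add 0) from
            (hsymm _).trans (Ext.mk₀_comp_mk₀ S.f (ModuleCat.ofHom ψ : S.X₂ ⟶ L)).symm]
          exact hS.extClass_comp_assoc _
      obtain ⟨e⟩ := dual_quot_equiv (E := E) p q hq hpq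
      let e₁ := topDual (cdLE_maximal hn) eK hf.isInjective S.X₁
      let dmap : (localCohomology 𝔪 (n - 1)).obj S.X₃ →ₗ[R] (localCohomology 𝔪 n).obj S.X₁ :=
        hn1 ▸ GrothLib.LC.δ 𝔪 hS (n - 1)
      have key : ∀ (k : ℕ) (hk : n - 1 + 1 = k) (e₁ : (localCohomology 𝔪 k).obj S.X₁ ≃ₗ[R] ((S.X₁ →ₗ[R] K) →ₗ[R] E)),
          (∀ x, (localCohomology 𝔪 k).map S.f x = 0 ↔ (e₁ x).comp p = 0) →
          Nonempty ((localCohomology 𝔪 (n - 1)).obj S.X₃ ≃ₗ[R] LinearMap.ker (p.lcomp R E)) := by
        rintro k rfl e₁ he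
        refine ⟨LinearEquiv.ofBijective ((e₁.toLinearMap ∘ₗ GrothLib.LC.δ 𝔪 hS (n - 1)).codRestrict _
          fun x => (he _).1 (GrothLib.LC.map_f_δ 𝔪 hS (n - 1) x)) ⟨fun a b hab =>
            hinj (e₁.injective (congrArg Subtype.val hab)), fun ψ => ?_⟩⟩
        obtain ⟨x, hx⟩ := e₁.surjective ψ.1
        obtain ⟨w, hw⟩ := GrothLib.LC.exists_of_map_f_eq_zero 𝔪 hS (n - 1) (x := x)
          ((he x).2 (by rw [hx]; exact ψ.2))
        exact ⟨w, Subtype.ext ((congrArg e₁ hw).trans hx)⟩
      obtain ⟨e'⟩ := key n hn1 e₁ fun x => by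
        rw [← (topDual (cdLE_maximal hn) eK hf.isInjective S.X₂).map_eq_zero_iff, topDual_naturality]
      exact ⟨e'.trans e.symm⟩
    · obtain ⟨e⟩ := ih S.X₁ (by omega)
      have hDi : Function.Injective D := by
        refine (injective_iff_map_eq_zero _).2 fun x hx => ?_
        obtain ⟨y, rfl⟩ := hker x hx
        obtain ⟨i', rfl⟩ : ∃ i', i = i' + 1 := ⟨i - 1, by omega⟩
        rw [Subsingleton.elim (h := Ext.subsingleton_of_projective S.X₂ L i') y 0, Ext.comp_zero]
      have key : ∀ (k k' : ℕ) (hk : k + 1 = k'), k' < n →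
          Nonempty ((localCohomology 𝔪 k).obj S.X₃ ≃ₗ[R] (localCohomology 𝔪 k').obj S.X₁) := by
        rintro k k' rfl hk
        refine ⟨LinearEquiv.ofBijective (GrothLib.LC.δ 𝔪 hS k) ⟨(injective_iff_map_eq_zero _).2 fun x hx => ?_,
          fun y => GrothLib.LC.exists_of_map_f_eq_zero 𝔪 hS k ((hF (k + 1) hk).elim _ _)⟩⟩
        obtain ⟨y, rfl⟩ := GrothLib.LC.exists_of_δ_eq_zero 𝔪 hS k hx
        rw [(hF k (by omega)).elim y 0, map_zero]
      obtain ⟨e'⟩ := key (n - (i + 1)) (n - i) (by omega) (by omega)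
      exact ⟨(e'.trans e).trans (LinearEquiv.congrLeft E R (LinearEquiv.ofBijective D ⟨hDi, hD⟩))⟩

/-- Ext into a canonical module vanishes above the dimension. -/
theorem subsingleton_ext_above (hn : ringKrullDim R = n) (hf : InjHull.IsInjectiveHull f)
    (hdepth : (n : ℕ∞) ≤ LocCoh.idealDepth 𝔪 R)
    (eK : (K →ₗ[R] E) ≃ₗ[R] LocCoh.H 𝔪 n R) :
    ∀ (j : ℕ) (M : ModuleCat.{u} R) [Module.Finite R M],
      Subsingleton (Ext M (ModuleCat.of R K) (n + 1 + j)) := by
  intro j
  induction j with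
  | zero =>
    intro M _
    obtain ⟨r, S, hS, hS2, hf1, hf2, rfl, hproj⟩ := exists_pres M
    haveI := hf1; haveI := hf2; haveI := hproj
    let L := ModuleCat.of R K
    refine subsingleton_of_forall_eq 0 fun x => ?_
    obtain ⟨y, rfl⟩ := Ext.contravariant_sequence_exact₃ hS L x
      (Subsingleton.elim (h := Ext.subsingleton_of_projective S.X₂ L n) _ _) (show 1 + n = n + 1 + 0 by omega)
    rcases Nat.eq_zero_or_pos n with rfl | hn0
    · -- every map on the syzygy extends
      suffices hz : ∃ z : Ext S.X₂ L 0, (Ext.mk₀ S.f).comp z (zero_add 0) = y by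
        obtain ⟨z, rfl⟩ := hz
        exact hS.extClass_comp_assoc _
      obtain ⟨φ, rfl⟩ := (Ext.linearEquiv₀ (R := R)).symm.surjective y
      let p : (S.X₂ →ₗ[R] K) →ₗ[R] (S.X₁ →ₗ[R] K) := S.f.hom.lcomp R K
      suffices hp : φ.hom ∈ LinearMap.range p by
        obtain ⟨ψ, hψ⟩ := hp
        refine ⟨Ext.mk₀ (ModuleCat.ofHom ψ), ?_⟩
        rw [Ext.mk₀_comp_mk₀]
        exact congrArg Ext.mk₀ (ModuleCat.hom_ext hψ)
      rw [← Submodule.Quotient.mk_eq_zero]
      refine GrothLib.Matlis.applyₗ_injective hf _ (LinearMap.ext fun χ => ?_)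
      rw [map_zero, LinearMap.zero_apply]
      show χ (Submodule.Quotient.mk φ.hom) = 0
      let e₁ := topDual (cdLE_maximal hn) eK hf.isInjective S.X₁
      obtain ⟨h, hh⟩ := e₁.surjective (χ.comp (Submodule.mkQ _))
      have h0 : (localCohomology 𝔪 0).map S.f h = 0 := by
        rw [← (topDual (cdLE_maximal hn) eK hf.isInjective S.X₂).map_eq_zero_iff, topDual_naturality,
          show topDual (cdLE_maximal hn) eK hf.isInjective S.X₁ h = _ from hh]
        refine LinearMap.ext fun ψ => ?_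
        show χ (Submodule.Quotient.mk (p ψ)) = 0
        rw [(Submodule.Quotient.mk_eq_zero _).2 (LinearMap.mem_range_self p ψ), map_zero]
      have hh0 : h = 0 := by
        obtain ⟨⟨v, hv⟩, rfl⟩ := (GrothLib.LC.torsionEquiv 𝔪 S.X₁).surjective h
        have h1 := (LinearEquiv.map_eq_zero_iff (GrothLib.LC.torsionEquiv 𝔪 S.X₂)).1
          ((GrothLib.LC.torsionEquiv_naturality 𝔪 S.X₁ S.f ⟨v, hv⟩).trans h0)
        have hv0 : v = 0 := (ModuleCat.mono_iff_injective _).1 hS.mono_f
          ((congrArg Subtype.val h1).trans (map_zero _).symm)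
        rw [LinearEquiv.map_eq_zero_iff]
        exact Subtype.ext hv0
      have := LinearMap.congr_fun hh φ.hom
      rw [hh0, map_zero] at this
      exact this.symm
    · obtain ⟨e⟩ := local_duality hn hf hdepth eK n S.X₁ le_rfl
      rw [Nat.sub_self] at e
      have : Subsingleton ((localCohomology 𝔪 0).obj S.X₁) := by
        refine subsingleton_of_forall_eq 0 fun x => ?_
        obtain ⟨⟨v, hv⟩, rfl⟩ := (GrothLib.LC.torsionEquiv 𝔪 S.X₁).surjective x
        have h0 : (localCohomology 𝔪 0).map S.f (GrothLib.LC.torsionEquiv 𝔪 S.X₁ ⟨v, hv⟩) = 0 := by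
          haveI : Subsingleton ((localCohomology 𝔪 0).obj S.X₂) := by
            rw [hS2]
            exact GrothLib.Faltings.subsingleton_H_pi 𝔪 0 r (lt_of_lt_of_le (by exact_mod_cast hn0) hdepth)
          exact Subsingleton.elim _ _
        have h1 := (LinearEquiv.map_eq_zero_iff (GrothLib.LC.torsionEquiv 𝔪 S.X₂)).1
          ((GrothLib.LC.torsionEquiv_naturality 𝔪 S.X₁ S.f ⟨v, hv⟩).trans h0)
        have hv0 : v = 0 := (ModuleCat.mono_iff_injective _).1 hS.mono_f
          ((congrArg Subtype.val h1).trans (map_zero _).symm)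
        rw [LinearEquiv.map_eq_zero_iff]
        exact Subtype.ext hv0
      haveI := subsingleton_ext_of_dual hf e.symm.injective.subsingleton
      rw [Subsingleton.elim y 0, Ext.comp_zero]
  | succ j ih =>
    intro M _
    obtain ⟨r, S, hS, hS2, hf1, hf2, rfl, hproj⟩ := exists_pres M
    haveI := hf1; haveI := hf2; haveI := hproj
    let L := ModuleCat.of R K
    refine subsingleton_of_forall_eq 0 fun x => ?_
    obtain ⟨y, rfl⟩ := Ext.contravariant_sequence_exact₃ hS L x
      (Subsingleton.elim (h := Ext.subsingleton_of_projective S.X₂ L (n + 1 + j)) _ _)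
      (show 1 + (n + 1 + j) = n + 1 + (j + 1) by omega)
    rw [Subsingleton.elim (h := ih S.X₁) y 0, Ext.comp_zero]

end CM

end GrothLib.CanonMod
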