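import Groth.Agent.Lib.InjMod.Matlis
import Mathlib.RingTheory.Filtration
import Mathlib.RingTheory.Nakayama

/-!
# Finite modules with isomorphic Matlis duals are isomorphic
-/

universe u

namespace GrothLib.CanonMod

variable {R : Type u} [CommRing R] [IsNoetherianRing R] [IsLocalRing R]

local notation "𝔪" => IsLocalRing.maximalIdeal R

theorem pi_mem_smul_top {r : ℕ} {M : Type u} [AddCommGroup M] [Module R M] (J : Ideal R) {v : Fin r → M}
    (hv : ∀ i, v i ∈ J • (⊤ : Submodule R M)) : v ∈ J • (⊤ : Submodule R (Fin r → M)) := by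
  classical
  rw [← Finset.univ_sum_single v]
  refine Submodule.sum_mem _ fun i _ => ?_
  have : Submodule.map (LinearMap.single R (fun _ => M) i) (J • ⊤) ≤ J • (⊤ : Submodule R (Fin r → M)) := by
    rw [Submodule.map_smul'']
    exact smul_mono_right _ le_top
  exact this ⟨v i, hv i, rfl⟩

/-- If for every `t` there is a surjection `K → K'/m^t K'`, there is a surjection `K → K'`. -/
theorem exists_surjective_of_approx {K K' : Type u} [AddCommGroup K] [Module R K] [Module.Finite R K]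
    [AddCommGroup K'] [Module R K'] [Module.Finite R K']
    (h : ∀ t : ℕ, ∃ β : K →ₗ[R] K' ⧸ (𝔪 ^ t • (⊤ : Submodule R K')), Function.Surjective β) :
    ∃ φ : K →ₗ[R] K', Function.Surjective φ := by
  classical
  obtain ⟨r, π, hπ⟩ := Module.Finite.exists_fin' R K
  obtain ⟨s, g, hg⟩ := Module.Finite.exists_fin' R (LinearMap.ker π)
  let L : (Fin r → K') →ₗ[R] (Fin s → K') :=
    LinearMap.pi fun j => ∑ i, ((g (Pi.single j 1)).1 i) • LinearMap.proj i
  obtain ⟨c, hc⟩ := Ideal.exists_pow_inf_eq_pow_smul 𝔪 (LinearMap.range L)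
  obtain ⟨β, hβ⟩ := h (c + 1)
  let N := 𝔪 ^ (c + 1) • (⊤ : Submodule R K')
  let y : Fin r → K' := fun i => Classical.choose (N.mkQ_surjective (β (π (Pi.single i 1))))
  have hy : ∀ i, N.mkQ (y i) = β (π (Pi.single i 1)) :=
    fun i => Classical.choose_spec (N.mkQ_surjective (β (π (Pi.single i 1))))
  have hlin : ∀ v : Fin r → R, β (π v) = N.mkQ (∑ i, v i • y i) := by
    intro v
    conv_lhs => rw [pi_eq_sum_univ' v, map_sum, map_sum]
    rw [map_sum]
    refine Finset.sum_congr rfl fun i _ => ?_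
    rw [map_smul, map_smul, map_smul, hy]
  have hLy : L y ∈ 𝔪 ^ (c + 1) • (⊤ : Submodule R (Fin s → K')) := by
    refine pi_mem_smul_top _ fun j => ?_
    show L y j ∈ N
    rw [← Submodule.Quotient.mk_eq_zero, show L y j = ∑ i, (g (Pi.single j 1)).1 i • y i by simp [L]]
    refine (hlin _).symm.trans ?_
    rw [LinearMap.mem_ker.1 (g (Pi.single j 1)).2, map_zero]
  have hmem : L y ∈ 𝔪 • LinearMap.range L := by
    have h1 : L y ∈ 𝔪 ^ (c + 1) • ⊤ ⊓ LinearMap.range L := ⟨hLy, LinearMap.mem_range_self L y⟩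
    rw [hc (c + 1) (by omega), Nat.add_sub_cancel_left, pow_one] at h1
    exact (smul_mono_right 𝔪 inf_le_right : _ ≤ 𝔪 • LinearMap.range L) h1
  obtain ⟨z, hz, hzy⟩ : ∃ z ∈ 𝔪 • (⊤ : Submodule R (Fin r → K')), L z = L y := by
    rw [LinearMap.range_eq_map, ← Submodule.map_smul''] at hmem
    exact hmem
  let w : Fin r → K' := y - z
  let ψ : (Fin r → R) →ₗ[R] K' := Fintype.linearCombination R w
  have hLw : L w = 0 := by rw [map_sub, hzy, sub_self]
  have hker : LinearMap.ker π ≤ LinearMap.ker ψ := by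
    intro v hv
    obtain ⟨a, ha⟩ := hg ⟨v, hv⟩
    have h1 : ψ ((LinearMap.ker π).subtype (g a)) = 0 := by
      conv_lhs => rw [pi_eq_sum_univ' a, map_sum, map_sum, map_sum]
      refine Finset.sum_eq_zero fun j _ => ?_
      rw [map_smul, map_smul, map_smul]
      have : ψ ((LinearMap.ker π).subtype (g (Pi.single j 1))) = L w j := by
        simp [L, ψ, Fintype.linearCombination_apply]
      rw [this, hLw, Pi.zero_apply, smul_zero]
    rw [ha] at h1
    exact h1
  refine ⟨((LinearMap.ker π).liftQ ψ hker).comp (π.quotKerEquivOfSurjective hπ).symm.toLinearMap, ?_⟩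
  rw [← LinearMap.range_eq_top, LinearMap.range_comp, LinearEquiv.range, Submodule.map_top,
    Submodule.range_liftQ, eq_top_iff]
  refine Submodule.le_of_le_smul_of_le_jacobson_bot Module.Finite.fg_top
    (IsLocalRing.maximalIdeal_le_jacobson _) fun k' _ => ?_
  obtain ⟨k, hk⟩ := hβ (N.mkQ k')
  obtain ⟨v, rfl⟩ := hπ k
  have h1 : k' - ∑ i, v i • y i ∈ N := by
    rw [← Submodule.Quotient.eq]
    exact hk.symm.trans (hlin v)
  have h2 : ∑ i, v i • y i - ψ v ∈ 𝔪 • (⊤ : Submodule R K') := by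
    rw [Fintype.linearCombination_apply, ← Finset.sum_sub_distrib]
    refine Submodule.sum_mem _ fun i _ => ?_
    rw [← smul_sub, show y i - w i = z i by simp [w]]
    refine Submodule.smul_mem _ _ ?_
    have : Submodule.map (LinearMap.proj i : (Fin r → K') →ₗ[R] K') (𝔪 • ⊤) ≤ 𝔪 • (⊤ : Submodule R K') := by
      rw [Submodule.map_smul'']
      exact smul_mono_right _ le_top
    exact this ⟨z, hz, rfl⟩
  have h3 : N ≤ 𝔪 • (⊤ : Submodule R K') := Submodule.smul_mono_left (Ideal.pow_le_self (by omega))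
  rw [show k' = ψ v + ((k' - ∑ i, v i • y i) + (∑ i, v i • y i - ψ v)) by abel]
  exact Submodule.add_mem _ (Submodule.mem_sup_left (LinearMap.mem_range_self ψ v))
    (Submodule.mem_sup_right (Submodule.add_mem _ (h3 h1) h2))

variable {E : Type u} [AddCommGroup E] [Module R E] {f : IsLocalRing.ResidueField R →ₗ[R] E}

theorem isFiniteLength_quotient_pow (M : Type u) [AddCommGroup M] [Module R M] [Module.Finite R M] (t : ℕ) :
    IsFiniteLength R (M ⧸ (𝔪 ^ t • (⊤ : Submodule R M))) := by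
  have hkill : ∀ a ∈ 𝔪 ^ t, ∀ z : M ⧸ (𝔪 ^ t • (⊤ : Submodule R M)), a • z = 0 := fun a ha z => by
    obtain ⟨z, rfl⟩ := Submodule.Quotient.mk_surjective _ z
    rw [← Submodule.Quotient.mk_smul, Submodule.Quotient.mk_eq_zero]
    exact Submodule.smul_mem_smul ha Submodule.mem_top
  haveI : IsArtinian R (M ⧸ (𝔪 ^ t • (⊤ : Submodule R M))) :=
    (GrothLib.LC.finite_iff_isArtinian_of_pow_smul 𝔪 hkill).1 inferInstance
  exact isFiniteLength_iff_isNoetherian_isArtinian.2 ⟨inferInstance, inferInstance⟩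

/-- An isomorphism of duals gives surjections onto the truncations. -/
theorem exists_surjective_quotient_of_dual (hf : InjHull.IsInjectiveHull f) {K K' : Type u}
    [AddCommGroup K] [Module R K] [AddCommGroup K'] [Module R K'] [Module.Finite R K']
    (e : (K' →ₗ[R] E) ≃ₗ[R] (K →ₗ[R] E)) (t : ℕ) :
    ∃ β : K →ₗ[R] K' ⧸ (𝔪 ^ t • (⊤ : Submodule R K')), Function.Surjective β := by
  let q := (𝔪 ^ t • (⊤ : Submodule R K')).mkQ
  let b := LinearEquiv.ofBijective _
    (GrothLib.Matlis.applyₗ_bijective hf (isFiniteLength_quotient_pow K' t))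
  let μ : K →ₗ[R] ((K' ⧸ (𝔪 ^ t • (⊤ : Submodule R K'))) →ₗ[R] E) →ₗ[R] E :=
    (e.toLinearMap.comp (q.lcomp R E)).flip
  refine ⟨b.symm.toLinearMap.comp μ, fun a => ?_⟩
  by_contra ha
  have hne : (LinearMap.range (b.symm.toLinearMap.comp μ)).mkQ a ≠ 0 := fun h => ha
    ((Submodule.Quotient.mk_eq_zero _).1 h)
  obtain ⟨χ, hχ⟩ := GrothLib.Matlis.exists_apply_ne_zero hf hne
  let χ' := χ.comp (LinearMap.range (b.symm.toLinearMap.comp μ)).mkQ
  have h0 : e (q.lcomp R E χ') = 0 := by
    refine LinearMap.ext fun k => ?_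
    have h1 : b ((b.symm.toLinearMap.comp μ) k) χ' = μ k χ' := by simp
    show μ k χ' = 0
    rw [← h1]
    show χ ((LinearMap.range (b.symm.toLinearMap.comp μ)).mkQ ((b.symm.toLinearMap.comp μ) k)) = 0
    rw [Submodule.mkQ_apply, (Submodule.Quotient.mk_eq_zero _).2 (LinearMap.mem_range_self _ k), map_zero]
  obtain ⟨k', rfl⟩ := Submodule.mkQ_surjective _ a
  exact hχ (LinearMap.congr_fun (e.map_eq_zero_iff.1 h0) k')

/-- Finite modules with isomorphic Matlis duals are isomorphic. -/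
theorem nonempty_equiv_of_dual (hf : InjHull.IsInjectiveHull f) {K K' : Type u}
    [AddCommGroup K] [Module R K] [Module.Finite R K] [AddCommGroup K'] [Module R K'] [Module.Finite R K']
    (e : (K' →ₗ[R] E) ≃ₗ[R] (K →ₗ[R] E)) : Nonempty (K ≃ₗ[R] K') := by
  obtain ⟨φ, hφ⟩ := exists_surjective_of_approx (exists_surjective_quotient_of_dual hf e)
  obtain ⟨ψ, hψ⟩ := exists_surjective_of_approx (exists_surjective_quotient_of_dual hf e.symm)
  have h := (OrzechProperty.bijective_of_surjective_endomorphism (ψ.comp φ) (hψ.comp hφ)).1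
  exact ⟨LinearEquiv.ofBijective φ ⟨Function.Injective.of_comp h, hφ⟩⟩

end GrothLib.CanonMod
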