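import Groth.Agent.Lib.CanonMod.Ass
import Groth.Agent.Lib.CanonMod.CM
import Groth.Agent.Lib.HLVT.DualTop
import Groth.Agent.Lib.HLVT.CanonSupp
import Groth.Agent.Lib.Depth.CM
import Groth.Agent.Lib.Depth.Local

/-! Canonical modules satisfy `(S_2)`. -/

set_option linter.style.haveILetI false

universe u

open CategoryTheory IsLocalRing RingTheory.Sequence
open scoped Pointwise

namespace GrothLib.CanonMod

variable {R : Type u} [CommRing R] [IsNoetherianRing R]

/-- The elements of `H^{m+1}(R)` killed by `a` come from `H^m(R/aR)`. -/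
theorem exists_connecting (I : Ideal R) (a : R) (m : ℕ) (hR : ringKrullDim R ≤ (m + 1 : ℕ))
    (ha : ringKrullDim (R ⧸ Ideal.span {a}) ≤ (m : ℕ)) :
    ∃ Φ : LocCoh.H I m (R ⧸ Ideal.span {a}) →ₗ[R] LocCoh.H I (m + 1) R,
      (∀ z, a • Φ z = 0) ∧ ∀ h, a • h = 0 → h ∈ LinearMap.range Φ := by
  let J : Ideal R := Ideal.span {a}
  let g : R →ₗ[R] J :=
    (LinearMap.toSpanSingleton R R a).codRestrict J fun r => J.mul_mem_left r (Ideal.mem_span_singleton_self a)
  have hg : Function.Surjective g := fun ⟨y, hy⟩ => by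
    obtain ⟨c, hc⟩ := Ideal.mem_span_singleton'.1 hy
    exact ⟨c, Subtype.ext hc⟩
  let S₁ : ShortComplex (ModuleCat.{u} R) := ShortComplex.mk
    (ModuleCat.ofHom (LinearMap.ker g).subtype) (ModuleCat.ofHom g)
    (ModuleCat.hom_ext (LinearMap.ext fun x => x.2))
  have hS₁ : S₁.ShortExact :=
    { exact := (ShortComplex.moduleCat_exact_iff _).2 fun x hx => ⟨⟨x, hx⟩, rfl⟩
      mono_f := (ModuleCat.mono_iff_injective _).2 (LinearMap.ker g).injective_subtype
      epi_g := (ModuleCat.epi_iff_surjective _).2 hg }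
  let S₂ : ShortComplex (ModuleCat.{u} R) := ShortComplex.mk
    (ModuleCat.ofHom (J.subtype : J →ₗ[R] R)) (ModuleCat.ofHom (Submodule.mkQ J))
    (ModuleCat.hom_ext (LinearMap.ext fun x => (Submodule.Quotient.mk_eq_zero J).2 x.2))
  have hS₂ : S₂.ShortExact :=
    { exact := (ShortComplex.moduleCat_exact_iff _).2 fun x hx => ⟨⟨x, (Submodule.Quotient.mk_eq_zero J).1 hx⟩, rfl⟩
      mono_f := (ModuleCat.mono_iff_injective _).2 J.injective_subtype
      epi_g := (ModuleCat.epi_iff_surjective _).2 (Submodule.mkQ_surjective J) }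
  have hker : Subsingleton ((localCohomology I (m + 1)).obj S₁.X₁) := by
    refine GrothLib.LC.subsingleton_of_supportDim_lt (m + 1) R I (LinearMap.ker g) (lt_of_le_of_lt (le_trans ?_ ha)
      (by exact_mod_cast Nat.lt_succ_self m))
    rw [ringKrullDim_quotient]
    refine Order.krullDim_le_of_strictMono (Set.inclusion fun P hP => ?_) fun _ _ h => h
    rw [Module.mem_support_iff_of_finite] at hP
    refine fun x hx => hP (Module.mem_annihilator.2 fun y => Subtype.ext ?_)
    obtain ⟨c, rfl⟩ := Ideal.mem_span_singleton'.1 hx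
    have h0 : (y : R) * a = 0 := congrArg Subtype.val (LinearMap.mem_ker.1 y.2)
    show c * a * (y : R) = 0
    rw [mul_assoc, mul_comm a, h0, mul_zero]
  let G := ((localCohomology I (m + 1)).map S₁.g).hom
  have hG : Function.Bijective G :=
    ⟨(injective_iff_map_eq_zero G).2 fun x hx => by
      obtain ⟨y, rfl⟩ := GrothLib.LC.exists_of_map_g_eq_zero I hS₁ (m + 1) (x := x) hx
      rw [Subsingleton.elim y 0, map_zero],
     GrothLib.HLVT.map_surjective_top I S₁.g hg
      (by rw [show Module.supportDim R S₁.X₂ = Module.supportDim R R from rfl,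
        Module.supportDim_self_eq_ringKrullDim]; exact hR)⟩
  have hcomp : S₁.g ≫ S₂.f = a • 𝟙 (ModuleCat.of R R) :=
    ModuleCat.hom_ext (LinearMap.ext fun r => mul_comm r a)
  have hf : ∀ h, (localCohomology I (m + 1)).map S₂.f (G h) = a • h := fun h => by
    show (localCohomology I (m + 1)).map S₂.f ((localCohomology I (m + 1)).map S₁.g h) = _
    rw [← ConcreteCategory.comp_apply, ← Functor.map_comp, hcomp, GrothLib.LC.map_smul_apply,
      GrothLib.LC.map_id_apply]
  let eG := LinearEquiv.ofBijective G hG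
  refine ⟨eG.symm.toLinearMap ∘ₗ GrothLib.LC.δ I hS₂ m, fun z => ?_, fun h hh => ?_⟩
  · show a • eG.symm (GrothLib.LC.δ I hS₂ m z) = 0
    rw [← hf, show G (eG.symm (GrothLib.LC.δ I hS₂ m z)) = GrothLib.LC.δ I hS₂ m z from eG.apply_symm_apply _]
    exact GrothLib.LC.map_f_δ I hS₂ m z
  · obtain ⟨z, hz⟩ := GrothLib.LC.exists_of_map_f_eq_zero I hS₂ m (x := G h) ((hf h).trans hh)
    refine ⟨z, ?_⟩
    show eG.symm (GrothLib.LC.δ I hS₂ m z) = h
    rw [hz]
    exact eG.symm_apply_apply h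

variable [IsLocalRing R]
variable {K : Type u} [AddCommGroup K] [Module R K] [Module.Finite R K]
variable {E : Type u} [AddCommGroup E] [Module R E]
variable {n : ℕ} {f : ResidueField R →ₗ[R] E}

local notation "𝔪" => IsLocalRing.maximalIdeal R

omit [IsNoetherianRing R] [IsLocalRing R] in
theorem natCast_succ_le {d : WithBot ℕ∞} {n : ℕ} (h : d + 1 ≤ (n + 1 : ℕ)) : d ≤ (n : ℕ) := by
  induction d using WithBot.recBotCoe with
  | bot => exact bot_le
  | coe e =>
    have h' : e + 1 ≤ ((n + 1 : ℕ) : ℕ∞) := WithBot.coe_le_coe.1 h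
    refine WithBot.coe_le_coe.2 ?_
    induction e using ENat.recTopCoe with
    | top => simp at h'
    | coe m =>
      have : m + 1 ≤ n + 1 := by exact_mod_cast h'
      exact_mod_cast (show m ≤ n by omega)

omit [IsLocalRing R] in
theorem isSMulRegular_of_forall_notMem {M : Type u} [AddCommGroup M] [Module R M] {a : R}
    (h : ∀ q ∈ associatedPrimes R M, a ∉ q) : IsSMulRegular M a := by
  rw [isSMulRegular_iff_right_eq_zero_of_smul]
  intro x hx
  by_contra hne
  obtain ⟨q, hq, haq⟩ := Set.mem_iUnion₂.1 (show a ∈ ⋃ q ∈ associatedPrimes R M, (q : Set R) by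
    rw [biUnion_associatedPrimes_eq_zero_divisors]; exact ⟨x, hne, hx⟩)
  exact h q hq haq

omit [IsLocalRing R] in
theorem notMem_of_isSMulRegular {M : Type u} [AddCommGroup M] [Module R M] {a : R} (ha : IsSMulRegular M a)
    {q : Ideal R} (hq : q ∈ associatedPrimes R M) : a ∉ q := fun haq => by
  obtain ⟨x, hne, hx⟩ := (show a ∈ {r : R | ∃ x : M, x ≠ 0 ∧ r • x = 0} by
    rw [← biUnion_associatedPrimes_eq_zero_divisors]; exact Set.mem_iUnion₂.2 ⟨q, hq, haq⟩)
  exact hne (isSMulRegular_iff_right_eq_zero_of_smul.1 ha x hx)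

omit [Module.Finite R K] in
/-- Associated primes of `K/aK` for a parameter `a`. -/
theorem le_dim_of_mem_ass_quotSMulTop {m : ℕ} (hn : ringKrullDim R = (m + 1 : ℕ))
    (hf : InjHull.IsInjectiveHull f) (eK : (K →ₗ[R] E) ≃ₗ[R] LocCoh.H 𝔪 (m + 1) R) {a : R}
    (ha : ringKrullDim (R ⧸ Ideal.span {a}) ≤ (m : ℕ)) {p : Ideal R}
    (hp : p ∈ associatedPrimes R (QuotSMulTop a K)) : (m : WithBot ℕ∞) ≤ ringKrullDim (R ⧸ p) := by
  obtain ⟨hp', v, hpv⟩ := isAssociatedPrime_iff.1 hp
  have hv : v ≠ 0 := fun h => hp'.ne_top (by simp [hpv, h])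
  have hqv : ∀ b ∈ p, b • v = 0 := fun b hb => by
    rwa [hpv, Submodule.mem_colon_singleton, Submodule.mem_bot] at hb
  obtain ⟨k, rfl⟩ := Submodule.Quotient.mk_surjective _ v
  by_contra hlt
  obtain ⟨Φ, hΦ, hΦ'⟩ := exists_connecting 𝔪 a m hn.le ha
  let Ψ : LocCoh.H 𝔪 m (R ⧸ Ideal.span {a}) →ₗ[R] E := LinearMap.applyₗ k ∘ₗ eK.symm.toLinearMap ∘ₗ Φ
  have hΨ : ∀ b ∈ p, b • Ψ = 0 := fun b hb => LinearMap.ext fun z => by
    have h1 := hqv b hb
    rw [← Submodule.Quotient.mk_smul, Submodule.Quotient.mk_eq_zero, Submodule.mem_smul_pointwise_iff_exists] at h1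
    obtain ⟨k', -, hk'⟩ := h1
    show b • eK.symm (Φ z) k = 0
    rw [← map_smul, ← hk', map_smul, ← LinearMap.smul_apply, ← map_smul, hΦ, map_zero, LinearMap.zero_apply]
  have hsd : Module.supportDim R (R ⧸ Ideal.span {a}) ≤ (m : ℕ) := by
    rw [Module.supportDim_quotient_eq_ringKrullDim]; exact ha
  have hΨ0 : Ψ = 0 := GrothLib.HLVT.eq_zero_of_smul_eq_zero _ 𝔪 p hsd
    (GrothLib.LC.subsingleton_of_supportDim_lt m R 𝔪 _ (lt_of_le_of_lt (by
      rw [ringKrullDim_quotient]
      exact Order.krullDim_le_of_strictMono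
        (Set.inclusion (GrothLib.HLVT.support_quotient_smul_top_subset p _)) fun _ _ h => h)
      (not_le.1 hlt))) Ψ hΨ
  obtain ⟨χ, hχ⟩ := GrothLib.Matlis.exists_apply_ne_zero hf hv
  let ψ : K →ₗ[R] E := χ.comp (Submodule.mkQ _)
  have hψ : a • ψ = 0 := LinearMap.ext fun x => by
    show a • χ (Submodule.Quotient.mk x) = 0
    rw [← map_smul, ← Submodule.Quotient.mk_smul, (Submodule.Quotient.mk_eq_zero _).2
      (Submodule.smul_mem_pointwise_smul x a ⊤ Submodule.mem_top), map_zero]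
  obtain ⟨z, hz⟩ := hΦ' (eK ψ) (by rw [← map_smul, hψ, map_zero])
  refine hχ ?_
  have h2 : Ψ z = 0 := by rw [hΨ0]; rfl
  change eK.symm (Φ z) k = 0 at h2
  rwa [hz, eK.symm_apply_apply] at h2

theorem dim_eq_of_mem_ass (hn : ringKrullDim R = n) (hf : InjHull.IsInjectiveHull f)
    (eK : (K →ₗ[R] E) ≃ₗ[R] LocCoh.H 𝔪 n R) {p : Ideal R} (hp : p ∈ associatedPrimes R K) :
    ringKrullDim (R ⧸ p) = n :=
  ((mem_associatedPrimes_iff hn hf eK p).1 hp).2

/-- An element cutting the dimension down is regular on the canonical module. -/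
theorem isSMulRegular_of_dim_lt (hn : ringKrullDim R = n) (hf : InjHull.IsInjectiveHull f)
    (eK : (K →ₗ[R] E) ≃ₗ[R] LocCoh.H 𝔪 n R) {a : R}
    (ha : ringKrullDim (R ⧸ Ideal.span {a}) < (n : WithBot ℕ∞)) : IsSMulRegular K a := by
  refine isSMulRegular_of_forall_notMem fun q hq haq => ?_
  exact absurd ((dim_eq_of_mem_ass hn hf eK hq) ▸ ringKrullDim_le_of_surjective _
    (Ideal.Quotient.factor_surjective ((Ideal.span_singleton_le_iff_mem q).2 haq))) (not_le.2 ha)

/-- Every prime `p` with `dim R/p` small contains a regular sequence on `K`. -/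
theorem exists_regular_pair (hn : ringKrullDim R = n) (hf : InjHull.IsInjectiveHull f)
    (eK : (K →ₗ[R] E) ≃ₗ[R] LocCoh.H 𝔪 n R) (p : Ideal R) [p.IsPrime]
    (hp : ringKrullDim (R ⧸ p) + 1 ≤ (n : WithBot ℕ∞)) :
    ∃ a ∈ p, IsSMulRegular K a ∧ (ringKrullDim (R ⧸ p) + 2 ≤ (n : WithBot ℕ∞) →
      ∃ b ∈ p, IsWeaklyRegular K [a, b]) := by
  obtain ⟨m, rfl⟩ : ∃ m, n = m + 1 := by
    refine ⟨n - 1, ?_⟩
    obtain ⟨d, hd⟩ := GrothLib.HLVT.exists_nat_ringKrullDim_quotient (show p ≠ ⊤ from Ideal.IsPrime.ne_top ‹_›)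
    rw [hd] at hp
    have : d + 1 ≤ n := by exact_mod_cast hp
    omega
  have hnotle : ∀ q : Ideal R, ((m + 1 : ℕ) : WithBot ℕ∞) ≤ ringKrullDim (R ⧸ q) → ¬ p ≤ q := fun q hq hle => by
    have h1 := (hq.trans (ringKrullDim_le_of_surjective _ (Ideal.Quotient.factor_surjective hle))).trans (natCast_succ_le hp)
    exact absurd (by exact_mod_cast h1 : m + 1 ≤ m) (by omega)
  obtain ⟨a, hap, ha⟩ : ∃ a ∈ p, IsSMulRegular K a := by
    by_contra hcon
    push Not at hcon
    have hfin := associatedPrimes.finite R K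
    have hsub : (p : Set R) ⊆ ⋃ q ∈ (hfin.toFinset : Set (Ideal R)), (q : Set R) := fun x hx => by
      rw [Set.Finite.coe_toFinset]
      by_contra hxU
      exact hcon x hx (isSMulRegular_of_forall_notMem fun q hq hxq =>
        hxU (Set.mem_iUnion₂.2 ⟨q, hq, hxq⟩))
    obtain ⟨q, hq, hle⟩ := (Ideal.subset_union_prime (R := R) (f := id) ⊤ ⊤
      (fun i hi _ _ => ((hfin.mem_toFinset.1 hi).isPrime))).1 hsub
    exact hnotle q (dim_eq_of_mem_ass hn hf eK (hfin.mem_toFinset.1 hq)).ge hle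
  refine ⟨a, hap, ha, fun hp2 => ?_⟩
  have hadim : ringKrullDim (R ⧸ Ideal.span {a}) ≤ (m : ℕ) := by
    by_contra hcon
    obtain ⟨d, hd⟩ := GrothLib.HLVT.exists_nat_ringKrullDim_quotient (show Ideal.span {a} ≠ ⊤ from
      ne_top_of_le_ne_top (Ideal.IsPrime.ne_top ‹p.IsPrime›) ((Ideal.span_singleton_le_iff_mem p).2 hap))
    rw [hd] at hcon
    have hdm : m < d := by
      by_contra h; exact hcon (by exact_mod_cast (not_lt.1 h))
    obtain ⟨q, hq, hle, hqd⟩ := exists_prime_dim_quotient (Ideal.span {a}) (d := m + 1)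
      (hd ▸ by exact_mod_cast hdm)
    have hqd' : ringKrullDim (R ⧸ q) = (m + 1 : ℕ) :=
      le_antisymm (hn ▸ ringKrullDim_le_of_surjective _ (Ideal.Quotient.mk_surjective (I := q))) hqd
    exact (notMem_of_isSMulRegular ha ((mem_associatedPrimes_iff hn hf eK q).2 ⟨hq, hqd'⟩))
      ((Ideal.span_singleton_le_iff_mem q).1 hle)
  obtain ⟨b, hbp, hb⟩ : ∃ b ∈ p, IsSMulRegular (QuotSMulTop a K) b := by
    by_contra hcon
    push Not at hcon
    have hfin := associatedPrimes.finite R (QuotSMulTop a K)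
    have hsub : (p : Set R) ⊆ ⋃ q ∈ (hfin.toFinset : Set (Ideal R)), (q : Set R) := fun x hx => by
      rw [Set.Finite.coe_toFinset]
      by_contra hxU
      exact hcon x hx (isSMulRegular_of_forall_notMem fun q hq hxq =>
        hxU (Set.mem_iUnion₂.2 ⟨q, hq, hxq⟩))
    obtain ⟨q, hq, hle⟩ := (Ideal.subset_union_prime (R := R) (f := id) ⊤ ⊤
      (fun i hi _ _ => ((hfin.mem_toFinset.1 hi).isPrime))).1 hsub
    have h1 := le_dim_of_mem_ass_quotSMulTop hn hf eK hadim (hfin.mem_toFinset.1 hq)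
    have h2 : (m : WithBot ℕ∞) + 2 ≤ ((m + 1 : ℕ) : WithBot ℕ∞) :=
      le_trans (add_le_add (h1.trans (ringKrullDim_le_of_surjective _ (Ideal.Quotient.factor_surjective hle))) le_rfl) hp2
    exact absurd (by exact_mod_cast h2 : m + 2 ≤ m + 1) (by omega)
  exact ⟨b, hbp, (isWeaklyRegular_cons_iff K a [b]).2 ⟨ha, (isWeaklyRegular_singleton_iff _ b).2 hb⟩⟩

theorem dim_quotient_add_one_le {q q' : Ideal R} [q.IsPrime] (h : q < q') :
    ringKrullDim (R ⧸ q') + 1 ≤ ringKrullDim (R ⧸ q) := by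
  obtain ⟨x, hx, hx'⟩ := SetLike.exists_of_lt h
  exact le_trans (add_le_add (ringKrullDim_le_of_surjective _ (Ideal.Quotient.factor_surjective
    (sup_le h.le ((Ideal.span_singleton_le_iff_mem q').2 hx)))) le_rfl)
    (GrothLib.Depth.ringKrullDim_quotient_sup_span_add_one_le q hx')

/-- A canonical module satisfies `(S_2)`. -/
theorem hasSk_two (hn : ringKrullDim R = n) (hf : InjHull.IsInjectiveHull f)
    (eK : (K →ₗ[R] E) ≃ₗ[R] LocCoh.H 𝔪 n R) : LocCoh.HasSk 2 R K := by
  intro p hp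
  let A := Localization.AtPrime p
  let M := LocalizedModule p.primeCompl K
  let P : PrimeSpectrum A → Ideal R := fun Q => Q.asIdeal.comap (algebraMap R A)
  have hann : ∀ Q ∈ Module.support A M, Module.annihilator R K ≤ P Q := fun Q hQ b hb => by
    rw [Module.mem_support_iff_of_finite] at hQ
    refine hQ (Module.mem_annihilator.2 fun z => ?_)
    induction z using LocalizedModule.induction_on with
    | h z s => rw [algebraMap_smul, LocalizedModule.smul'_mk, Module.mem_annihilator.1 hb z, LocalizedModule.zero_mk]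
  have hkey : ∀ (r : ℕ) (l : LTSeries (Module.support A M)), l.length = r →
      ringKrullDim (R ⧸ p) + (r : WithBot ℕ∞) ≤ (n : WithBot ℕ∞) := by
    intro r l hr
    obtain ⟨q, hq, hqle⟩ := Ideal.exists_minimalPrimes_le (hann _ l.head.2)
    have hqA : q ∈ associatedPrimes R K :=
      Module.associatedPrimes.minimalPrimes_annihilator_subset_associatedPrimes R K hq
    rw [← dim_eq_of_mem_ass hn hf eK hqA]
    have hmap : ∀ (i : ℕ) (hi : i ≤ r), ringKrullDim (R ⧸ P (l ⟨i, by omega⟩).1) + (i : WithBot ℕ∞) ≤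
        ringKrullDim (R ⧸ q) := by
      intro i
      induction i with
      | zero =>
        intro hi
        rw [Nat.cast_zero, add_zero]
        exact ringKrullDim_le_of_surjective _ (Ideal.Quotient.factor_surjective hqle)
      | succ i ih =>
        intro hi
        have hlt : P (l ⟨i, by omega⟩).1 < P (l ⟨i + 1, by omega⟩).1 := by
          have h0 : ((l ⟨i, by omega⟩).1.asIdeal : Ideal A) < (l ⟨i + 1, by omega⟩).1.asIdeal :=
            l.strictMono (show (⟨i, _⟩ : Fin (l.length + 1)) < ⟨i + 1, _⟩ from Nat.lt_succ_self i)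
          exact lt_of_le_not_ge (Ideal.comap_mono h0.le) fun hge => h0.not_ge
            ((IsLocalization.map_under p.primeCompl A _).symm.le.trans
              ((Ideal.map_mono hge).trans (IsLocalization.map_under p.primeCompl A _).le))
        refine le_trans ?_ (ih (by omega))
        push_cast
        rw [add_comm (i : WithBot ℕ∞) 1, ← add_assoc]
        exact add_le_add (dim_quotient_add_one_le hlt) le_rfl
    refine le_trans (add_le_add ?_ le_rfl) (hmap r le_rfl)
    refine ringKrullDim_le_of_surjective _ (Ideal.Quotient.factor_surjective (fun x hx => ?_ : P _ ≤ p))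
    by_contra hxp
    exact (l ⟨r, by omega⟩).1.isPrime.ne_top
      (Ideal.eq_top_of_isUnit_mem _ hx (IsLocalization.map_units A (⟨x, hxp⟩ : p.primeCompl)))
  rcases lt_or_ge (Module.supportDim A M) (1 : ℕ) with h1 | h1
  · refine le_trans ((min_le_right _ _).trans ?_) (WithBot.coe_le_coe.2 bot_le)
    by_contra hcon
    obtain ⟨l, hl⟩ := Order.le_krullDim_iff.1 (show ((1 : ℕ) : WithBot ℕ∞) ≤ Module.supportDim A M from
      (ENat.WithBot.add_one_le_iff (n := 0)).2 (not_le.1 hcon))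
    exact absurd (hl ▸ Order.LTSeries.length_le_krullDim l) (not_le.2 h1)
  obtain ⟨l, hl⟩ := Order.le_krullDim_iff.1 h1
  obtain ⟨a, hap, ha, hb⟩ := exists_regular_pair hn hf eK p (by exact_mod_cast hkey 1 l hl)
  have htop : p • (⊤ : Submodule R K) ≠ ⊤ := by
    haveI : Nontrivial K := by
      by_contra hK
      haveI := not_nontrivial_iff_subsingleton.1 hK
      exact absurd h1 (by rw [Module.supportDim_eq_bot_of_subsingleton]; simp)
    exact GrothLib.Depth.smul_top_ne_top (Ideal.IsPrime.ne_top ‹_›)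
  rcases lt_or_ge (Module.supportDim A M) (2 : ℕ) with h2 | h2
  · refine (min_le_right _ _).trans (le_trans ?_ (WithBot.coe_le_coe.2
      (((GrothLib.Depth.le_idealDepth_iff_exists (I := p) (M := K) htop 1).2 ⟨[a], rfl, by simpa using hap,
        (isWeaklyRegular_singleton_iff K a).2 ha⟩).trans (GrothLib.Depth.idealDepth_le_localization (M := K) p p le_rfl))))
    by_contra hcon
    obtain ⟨l', hl'⟩ := Order.le_krullDim_iff.1 (show ((2 : ℕ) : WithBot ℕ∞) ≤ Module.supportDim A M from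
      (ENat.WithBot.add_one_le_iff (n := 1)).2 (not_le.1 hcon))
    exact absurd (hl' ▸ Order.LTSeries.length_le_krullDim l') (not_le.2 h2)
  · obtain ⟨l', hl'⟩ := Order.le_krullDim_iff.1 h2
    obtain ⟨b, hbp, hab⟩ := hb (by exact_mod_cast hkey 2 l' hl')
    refine (min_le_left _ _).trans (WithBot.coe_le_coe.2
      (((GrothLib.Depth.le_idealDepth_iff_exists (I := p) (M := K) htop 2).2 ⟨[a, b], rfl, by simp [hap, hbp], hab⟩).trans
        (GrothLib.Depth.idealDepth_le_localization (M := K) p p le_rfl)))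

end GrothLib.CanonMod

namespace GrothLib.CanonMod

variable {R : Type u} [CommRing R] [IsNoetherianRing R] [IsLocalRing R]

/-- Cutting down to a zero-dimensional ring by `s` bounds the dimension by `s.card`. -/
theorem dim_quotient_le_card (J : Ideal R) (hJ : J ≠ ⊤) (s : Finset R) (hs : ∀ x ∈ s, x ∈ maximalIdeal R)
    (h : maximalIdeal R ≤ (J ⊔ Ideal.span (s : Set R)).radical) : ringKrullDim (R ⧸ J) ≤ (s.card : ℕ) := by
  classical
  haveI : Nontrivial (R ⧸ J) := Ideal.Quotient.nontrivial_iff.2 hJ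
  haveI : IsLocalRing (R ⧸ J) := IsLocalRing.of_surjective' (Ideal.Quotient.mk J) Ideal.Quotient.mk_surjective
  let t : Finset (R ⧸ J) := s.image (Ideal.Quotient.mk J)
  have ht : (t : Set (R ⧸ J)) ⊆ Ring.jacobson (R ⧸ J) := by
    rw [IsLocalRing.ringJacobson_eq_maximalIdeal]
    intro x hx
    obtain ⟨y, hy, rfl⟩ := Finset.mem_image.1 hx
    haveI : IsLocalHom (Ideal.Quotient.mk J) := Function.Surjective.isLocalHom _ Ideal.Quotient.mk_surjective
    exact fun hu => hs y hy ((isUnit_map_iff (Ideal.Quotient.mk J) y).1 hu)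
  refine (ringKrullDim_le_ringKrullDim_quotient_add_card t ht).trans ?_
  have h0 : Ring.KrullDimLE 0 (R ⧸ (J ⊔ Ideal.span (s : Set R))) := Ring.KrullDimLE.mk₀ fun P hP => by
    have hle : maximalIdeal R ≤ P.comap (Ideal.Quotient.mk _) := by
      refine h.trans ((hP.comap (Ideal.Quotient.mk _)).radical_le_iff.2 fun x hx => ?_)
      show Ideal.Quotient.mk _ x ∈ P
      rw [Ideal.Quotient.eq_zero_iff_mem.2 hx]
      exact zero_mem _
    have hmax := (maximalIdeal.isMaximal R).eq_of_le (hP.comap (Ideal.Quotient.mk _)).ne_top hle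
    have : P = (maximalIdeal R).map (Ideal.Quotient.mk _) := by
      rw [hmax, Ideal.map_comap_of_surjective _ Ideal.Quotient.mk_surjective]
    rcases Ideal.map_eq_top_or_isMaximal_of_surjective (Ideal.Quotient.mk (J ⊔ Ideal.span (s : Set R)))
      Ideal.Quotient.mk_surjective (maximalIdeal.isMaximal R) with ht | hm
    · exact absurd (this.trans ht) hP.ne_top
    · exact this ▸ hm
  have h1 : ringKrullDim ((R ⧸ J) ⧸ Ideal.span (t : Set (R ⧸ J))) ≤ ((0 : ℕ) : WithBot ℕ∞) := by
    rw [show Ideal.span (t : Set (R ⧸ J)) = (Ideal.span (s : Set R)).map (Ideal.Quotient.mk J) by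
      rw [Ideal.map_span, Finset.coe_image], ringKrullDim_eq_of_ringEquiv (DoubleQuot.quotQuotEquivQuotSup J _)]
    exact Ring.krullDimLE_iff.1 h0
  refine le_trans (add_le_add h1 (Nat.cast_le.2 Finset.card_image_le)) ?_
  rw [Nat.cast_zero, zero_add]

end GrothLib.CanonMod
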