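import Groth.Agent.Lib.CanonMod.AnnLoc
import Groth.Agent.Lib.CanonMod.SerreTwo
import Groth.Agent.Lib.LC.TopNonzero

/-! Generalized Cohen-Macaulay modules over quotients of Gorenstein rings. -/

set_option linter.style.haveILetI false

universe u

open CategoryTheory IsLocalRing

namespace GrothLib.CanonMod

variable {R : Type u} [CommRing R] [IsNoetherianRing R] [IsLocalRing R]

/-- An artinian power torsion module has finite length iff it is killed away from `m`. -/
theorem isFiniteLength_iff_forall_exists_smul {H : Type u} [AddCommGroup H] [Module R H] [IsArtinian R H]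
    (htor : LocCoh.IsPowerTorsion (maximalIdeal R) H) :
    IsFiniteLength R H ↔ ∀ (p : Ideal R) [p.IsPrime], p ≠ maximalIdeal R → ∃ r : R, r ∉ p ∧ ∀ x : H, r • x = 0 := by
  classical
  constructor
  · intro h p hp hne
    haveI := (isFiniteLength_iff_isNoetherian_isArtinian.1 h).1
    obtain ⟨s, hs⟩ := (Module.Finite.fg_top : (⊤ : Submodule R H).FG)
    choose k hk using htor
    obtain ⟨x, hxm, hxp⟩ := SetLike.not_le_iff_exists.1 (fun hle : maximalIdeal R ≤ p =>
      hne ((maximalIdeal.isMaximal R).eq_of_le hp.ne_top hle).symm)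
    refine ⟨x ^ s.sup k, fun h => hxp (hp.mem_of_pow_mem _ h), fun y => ?_⟩
    have hy : y ∈ Submodule.span R (s : Set H) := hs ▸ Submodule.mem_top
    induction hy using Submodule.span_induction with
    | mem z hz => exact hk z _ (Ideal.pow_le_pow_right (Finset.le_sup (f := k) hz) (Ideal.pow_mem_pow hxm _))
    | zero => rw [smul_zero]
    | add a b _ _ ha hb => rw [smul_add, ha, hb, add_zero]
    | smul r a _ ha => rw [smul_comm, ha, smul_zero]
  · intro h
    have hle : maximalIdeal R ≤ (Module.annihilator R H).radical := by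
      rw [Ideal.radical_eq_sInf]
      refine le_sInf fun p hp => ?_
      haveI := hp.2
      by_contra hne
      obtain ⟨r, hr, hk⟩ := h p fun he => hne (he ▸ le_rfl)
      exact hr (hp.1 (Module.mem_annihilator.2 hk))
    obtain ⟨N, hN⟩ := Ideal.exists_pow_le_of_le_radical_of_fg hle (maximalIdeal R).fg_of_isNoetherianRing
    haveI := (GrothLib.LC.finite_iff_isArtinian_of_pow_smul (maximalIdeal R) (N := N)
      fun a ha x => Module.mem_annihilator.1 (hN ha) x).2 inferInstance
    exact isFiniteLength_iff_isNoetherian_isArtinian.2 ⟨inferInstance, inferInstance⟩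

variable (M : Type u) [AddCommGroup M] [Module R M] [Module.Finite R M]

/-- `dim M_p + dim R/p ≤ dim M`, for chains. -/
theorem dim_quotient_add_length_le (p : Ideal R) [p.IsPrime]
    (l : LTSeries (Module.support (Localization.AtPrime p) (LocalizedModule p.primeCompl M))) :
    ringKrullDim (R ⧸ p) + (l.length : WithBot ℕ∞) ≤ Module.supportDim R M := by
  let A := Localization.AtPrime p
  let P : PrimeSpectrum A → Ideal R := fun Q => Q.asIdeal.comap (algebraMap R A)
  have hann : Module.annihilator R M ≤ P l.head.1 := fun b hb => by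
    have hQ := l.head.2
    rw [Module.mem_support_iff_of_finite] at hQ
    refine hQ (Module.mem_annihilator.2 fun z => ?_)
    induction z using LocalizedModule.induction_on with
    | h z s => rw [algebraMap_smul, LocalizedModule.smul'_mk, Module.mem_annihilator.1 hb z, LocalizedModule.zero_mk]
  have hmap : ∀ (i : ℕ) (hi : i ≤ l.length), ringKrullDim (R ⧸ P (l ⟨i, by omega⟩).1) + (i : WithBot ℕ∞) ≤
      Module.supportDim R M := by
    intro i
    induction i with
    | zero =>
      intro hi
      rw [Nat.cast_zero, add_zero, Module.supportDim_eq_ringKrullDim_quotient_annihilator]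
      exact ringKrullDim_le_of_surjective _ (Ideal.Quotient.factor_surjective hann)
    | succ i ih =>
      intro hi
      have hlt : P (l ⟨i, by omega⟩).1 < P (l ⟨i + 1, by omega⟩).1 := by
        have h0 : ((l ⟨i, by omega⟩).1.asIdeal : Ideal A) < (l ⟨i + 1, by omega⟩).1.asIdeal :=
          l.strictMono (show (⟨i, _⟩ : Fin (l.length + 1)) < ⟨i + 1, _⟩ from Nat.lt_succ_self i)
        exact lt_of_le_not_ge (Ideal.comap_mono h0.le) fun hge => h0.not_ge
          ((IsLocalization.map_under p.primeCompl A _).symm.le.trans
            ((Ideal.map_mono hge).trans (IsLocalization.map_under p.primeCompl A _).le))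
      refine le_trans ?_ (ih (by omega))
      push_cast
      rw [add_comm (i : WithBot ℕ∞) 1, ← add_assoc]
      exact add_le_add (dim_quotient_add_one_le hlt) le_rfl
  refine le_trans (add_le_add ?_ le_rfl) (hmap l.length le_rfl)
  refine ringKrullDim_le_of_surjective _ (Ideal.Quotient.factor_surjective (fun x hx => ?_ : P _ ≤ p))
  by_contra hxp
  exact (l ⟨l.length, by omega⟩).1.isPrime.ne_top
    (Ideal.eq_top_of_isUnit_mem _ hx (IsLocalization.map_units A (⟨x, hxp⟩ : p.primeCompl)))

variable {A : Type u} [CommRing A] [Algebra A R] [LocCoh.IsGorensteinLocalRing A]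

omit [IsLocalRing R] in
/-- A minimal prime of full dimension bounds `dim M_p` from below. -/
theorem le_dim_localized (hsurj : Function.Surjective (algebraMap A R)) {d : ℕ} (hd : ringKrullDim A = d)
    (p q : Ideal R) [p.IsPrime] [q.IsPrime] (hqp : q ≤ p) (hq : Module.annihilator R M ≤ q)
    {n t : ℕ} (hn : ringKrullDim (R ⧸ q) = n) (ht : ringKrullDim (R ⧸ p) = t) :
    ((n - t : ℕ) : WithBot ℕ∞) ≤ Module.supportDim (Localization.AtPrime p) (LocalizedModule p.primeCompl M) := by
  classical
  haveI := GrothLib.Gor.isCohenMacaulayLocalRing (A := A)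
  let P := p.comap (algebraMap A R)
  let Q := q.comap (algebraMap A R)
  haveI : P.IsPrime := inferInstanceAs (p.comap (algebraMap A R)).IsPrime
  haveI : Q.IsPrime := inferInstanceAs (q.comap (algebraMap A R)).IsPrime
  have hQP : Q ≤ P := Ideal.comap_mono hqp
  let B := Localization.AtPrime P
  let Rp := Localization.AtPrime p
  haveI : IsNoetherianRing Rp := IsLocalization.isNoetherianRing p.primeCompl _ inferInstance
  haveI : LocCoh.IsGorensteinLocalRing B := by
    obtain ⟨N, hN⟩ := LocCoh.IsGorensteinLocalRing.exists_hasInjectiveDimensionLT (A := A)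
    exact GrothLib.Gor.isGorensteinLocalRing_localization P hN
  haveI := GrothLib.Gor.isCohenMacaulayLocalRing (A := B)
  obtain ⟨b, hb⟩ := GrothLib.GorFlat.exists_dim_nat B
  obtain ⟨g, hg⟩ := ENat.ne_top_iff_exists.1 (Ideal.height_ne_top (I := Q) (Ideal.IsPrime.ne_top ‹_›))
  have hdisj : Disjoint (P.primeCompl : Set A) (Q : Set A) :=
    Set.disjoint_left.2 fun x hx hxQ => hx (hQP hxQ)
  let QB : Ideal B := Q.map (algebraMap A B)
  haveI hQBp : QB.IsPrime := IsLocalization.isPrime_of_isPrime_disjoint P.primeCompl B Q ‹_› hdisj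
  have hQBc : QB.comap (algebraMap A B) = Q := IsLocalization.under_map_of_isPrime_disjoint P.primeCompl B ‹_› hdisj
  obtain ⟨c, hc⟩ := GrothLib.HLVT.exists_nat_ringKrullDim_quotient (I := QB) hQBp.ne_top
  have hgB : QB.height = g := by
    rw [← IsLocalization.height_under P.primeCompl QB]
    show (QB.comap (algebraMap A B)).height = g
    rw [hQBc, hg]
  have e1 := height_add_dim_quotient QB hQBp.ne_top hgB hc hb
  have hquot : ∀ (r : Ideal R), ringKrullDim (A ⧸ r.comap (algebraMap A R)) = ringKrullDim (R ⧸ r) := fun r =>
    ringKrullDim_eq_of_ringEquiv (RingEquiv.ofBijective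
      (Ideal.quotientMap r (algebraMap A R) le_rfl) ⟨Ideal.quotientMap_injective, Ideal.quotientMap_surjective hsurj⟩)
  have hPb : P.height = (b : ℕ∞) := by
    have := hb
    rw [IsLocalization.AtPrime.ringKrullDim_eq_height P] at this
    exact WithBot.coe_injective this
  have e2 := height_add_dim_quotient P (Ideal.IsPrime.ne_top ‹_›) hPb ((hquot p).trans ht) hd
  have e3 := height_add_dim_quotient Q (Ideal.IsPrime.ne_top ‹_›) hg.symm ((hquot q).trans hn) hd
  have hnc : n - t = c := by omega
  rw [hnc, Module.supportDim_eq_ringKrullDim_quotient_annihilator, ← hc]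
  -- `B → R_p / q R_p` has kernel `Q B`
  let φ : B →+* Rp := Localization.localRingHom P p (algebraMap A R) rfl
  let qp : Ideal Rp := q.map (algebraMap R Rp)
  have hdisj' : Disjoint (p.primeCompl : Set R) (q : Set R) := Set.disjoint_left.2 fun x hx hxq => hx (hqp hxq)
  have hqpc : qp.comap (algebraMap R Rp) = q := IsLocalization.under_map_of_isPrime_disjoint p.primeCompl Rp ‹_› hdisj'
  have hann : Module.annihilator Rp (LocalizedModule p.primeCompl M) ≤ qp := by
    intro x hx
    obtain ⟨⟨r, s⟩, rfl⟩ := IsLocalization.mk'_surjective p.primeCompl x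
    obtain ⟨gens, hgens⟩ := (Module.Finite.fg_top : (⊤ : Submodule R M).FG)
    have hr : algebraMap R Rp r ∈ Module.annihilator Rp (LocalizedModule p.primeCompl M) := by
      rw [← IsLocalization.mk'_spec Rp r s]
      exact Ideal.mul_mem_right _ _ hx
    have hz : ∀ m : M, ∃ u : p.primeCompl, (u : R) • r • m = 0 := fun m => by
      have h1 := Module.mem_annihilator.1 hr (LocalizedModule.mkLinearMap p.primeCompl M m)
      rw [algebraMap_smul, ← map_smul] at h1
      exact (IsLocalizedModule.eq_zero_iff p.primeCompl _).1 h1
    choose u hu using hz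
    have hrq : r ∈ q := by
      have h1 : ((∏ m ∈ gens, u m : p.primeCompl) : R) * r ∈ Module.annihilator R M := by
        rw [← Submodule.annihilator_top, ← hgens, Submodule.mem_annihilator_span]
        rintro ⟨m, hm⟩
        show (((∏ m ∈ gens, u m : p.primeCompl) : R) * r) • m = 0
        rw [← Finset.prod_erase_mul gens u hm, Submonoid.coe_mul, mul_assoc, mul_smul, mul_smul, hu, smul_zero]
      exact (Ideal.IsPrime.mem_or_mem ‹q.IsPrime› (hq h1)).resolve_left fun h => (∏ m ∈ gens, u m).2 (hqp h)
    rw [show qp = q.map (algebraMap R Rp) from rfl, IsLocalization.mk'_mem_map_algebraMap_iff p.primeCompl]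
    exact ⟨1, one_mem _, by rwa [one_mul]⟩
  refine le_trans (le_of_eq ?_) (ringKrullDim_le_of_surjective _ (Ideal.Quotient.factor_surjective hann))
  have hφsurj : Function.Surjective φ := fun z => by
    obtain ⟨⟨r, s⟩, rfl⟩ := IsLocalization.mk'_surjective p.primeCompl z
    obtain ⟨a, rfl⟩ := hsurj r
    obtain ⟨t, ht⟩ := hsurj s
    refine ⟨IsLocalization.mk' B a (⟨t, fun h => s.2 (ht ▸ Ideal.mem_comap.1 h)⟩ : P.primeCompl), ?_⟩
    show Localization.localRingHom P p (algebraMap A R) rfl _ = _
    rw [Localization.localRingHom_mk']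
    congr 1
    exact Subtype.ext ht
  have hker : QB = qp.comap φ := by
    refine le_antisymm (Ideal.map_le_iff_le_comap.2 fun a ha => ?_) fun x hx => ?_
    · show φ (algebraMap A B a) ∈ qp
      rw [Localization.localRingHom_to_map]
      exact Ideal.mem_map_of_mem _ ha
    · obtain ⟨⟨a, s⟩, rfl⟩ := IsLocalization.mk'_surjective P.primeCompl x
      have h1 : φ (algebraMap A B a) ∈ qp := by
        rw [← IsLocalization.mk'_spec B a s, map_mul]
        exact Ideal.mul_mem_right _ _ hx
      rw [Localization.localRingHom_to_map] at h1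
      have h2 : algebraMap A R a ∈ qp.comap (algebraMap R Rp) := h1
      rw [hqpc] at h2
      rw [show QB = Q.map (algebraMap A B) from rfl, IsLocalization.mk'_mem_map_algebraMap_iff P.primeCompl]
      exact ⟨1, one_mem _, by rw [one_mul]; exact h2⟩
  exact ringKrullDim_eq_of_ringEquiv ((Ideal.quotEquivOfEq hker).trans (RingEquiv.ofBijective
    (Ideal.quotientMap qp φ le_rfl) ⟨Ideal.quotientMap_injective, Ideal.quotientMap_surjective hφsurj⟩))

/-- Generalized Cohen-Macaulay modules. -/
theorem isFiniteLength_H_below_iff [Module A M] [IsScalarTower A R M] (hsurj : Function.Surjective (algebraMap A R))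
    (n : ℕ) (hn : Module.supportDim R M = n) :
    (∀ i : ℕ, i < n → IsFiniteLength R (LocCoh.H (maximalIdeal R) i M)) ↔
      ((∀ p ∈ (Module.annihilator R M).minimalPrimes, ringKrullDim (R ⧸ p) = n) ∧
        ∀ (p : Ideal R) [p.IsPrime], p ≠ maximalIdeal R → Module.annihilator R M ≤ p →
          LocCoh.IsCohenMacaulayModule (Localization.AtPrime p) (LocalizedModule p.primeCompl M)) := by
  obtain ⟨d, hd, -, -⟩ := GrothLib.Gor.exists_dim A
  have hnd : n ≤ d := by
    have h := hn.symm.le.trans ((Module.supportDim_le_ringKrullDim R M).trans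
      (ringKrullDim_le_of_surjective (algebraMap A R) hsurj))
    rw [hd] at h
    exact_mod_cast h
  have hFL : ∀ i, i < n → (IsFiniteLength R (LocCoh.H (maximalIdeal R) i M) ↔
      ∀ (p : Ideal R) [p.IsPrime], p ≠ maximalIdeal R → ∀ j : ℕ, (j : WithBot ℕ∞) + ringKrullDim (R ⧸ p) = i →
        Subsingleton (LocCoh.H (maximalIdeal (Localization.AtPrime p)) j (LocalizedModule p.primeCompl M))) := by
    intro i hi
    haveI := GrothLib.LC.isArtinian_H_maximal (R := R) i M
    rw [isFiniteLength_iff_forall_exists_smul (GrothLib.LC.isPowerTorsion (maximalIdeal R) i (ModuleCat.of R M))]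
    exact forall₃_congr fun p _ _ => exists_smul_H_eq_zero_iff (A := A) hsurj M hd i (by omega) p
  have hdimle : ∀ (p : Ideal R) [p.IsPrime] (t : ℕ), ringKrullDim (R ⧸ p) = t → ∀ r : ℕ,
      (r : WithBot ℕ∞) ≤ Module.supportDim (Localization.AtPrime p) (LocalizedModule p.primeCompl M) → r + t ≤ n := by
    intro p hp t ht r hr
    obtain ⟨l, hl⟩ := Order.le_krullDim_iff.1 hr
    have h := dim_quotient_add_length_le M p l
    rw [hl, ht, hn] at h
    have : t + r ≤ n := by exact_mod_cast h
    omega
  have hnt : ∀ (p : Ideal R) [p.IsPrime], Module.annihilator R M ≤ p →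
      Nontrivial (LocalizedModule p.primeCompl M) := fun p hp hle =>
    Module.mem_support_iff.1 (show (⟨p, hp⟩ : PrimeSpectrum R) ∈ Module.support R M from
      Module.mem_support_iff_of_finite.2 hle)
  constructor
  · intro hFLi
    have key : ∀ (p : Ideal R) [p.IsPrime] (t : ℕ), p ≠ maximalIdeal R → ringKrullDim (R ⧸ p) = t →
        ((n - t : ℕ) : ℕ∞) ≤ LocCoh.depth (Localization.AtPrime p) (LocalizedModule p.primeCompl M) := by
      intro p _ t hne ht
      haveI : IsNoetherianRing (Localization.AtPrime p) := IsLocalization.isNoetherianRing p.primeCompl _ inferInstance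
      rw [LocCoh.depth, GrothLib.Depth.le_idealDepth_iff_H]
      intro j hj
      refine (hFL (j + t) (by omega)).1 (hFLi _ (by omega)) p hne j ?_
      rw [ht, Nat.cast_add]
    refine ⟨fun p hp => ?_, fun p hp hne hle => ?_⟩
    · haveI := hp.1.1
      obtain ⟨t, ht⟩ := GrothLib.HLVT.exists_nat_ringKrullDim_quotient (I := p) hp.1.1.ne_top
      have htn : ringKrullDim (R ⧸ p) ≤ Module.supportDim R M := by
        rw [Module.supportDim_eq_ringKrullDim_quotient_annihilator]
        exact ringKrullDim_le_of_surjective _ (Ideal.Quotient.factor_surjective hp.1.2)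
      refine le_antisymm (htn.trans hn.le) ?_
      by_cases hne : p = maximalIdeal R
      · rw [← hn, Module.supportDim_eq_ringKrullDim_quotient_annihilator]
        have h0 : ringKrullDim (R ⧸ Module.annihilator R M) ≤ ((0 : ℕ) : WithBot ℕ∞) := by
          refine Ring.krullDimLE_iff.1 (Ring.KrullDimLE.mk₀ fun I hI => ?_)
          let I' := I.comap (Ideal.Quotient.mk (Module.annihilator R M))
          have hle : Module.annihilator R M ≤ I' := fun x hx => by
            show Ideal.Quotient.mk _ x ∈ I
            rw [Ideal.Quotient.eq_zero_iff_mem.2 hx]; exact zero_mem _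
          haveI : I'.IsPrime := hI.comap _
          have h1 : I' = maximalIdeal R := le_antisymm (le_maximalIdeal (Ideal.IsPrime.ne_top ‹_›))
            (hne ▸ hp.2 ⟨inferInstance, hle⟩ (hne ▸ le_maximalIdeal (Ideal.IsPrime.ne_top ‹_›)))
          have : I = (maximalIdeal R).map (Ideal.Quotient.mk _) := by
            rw [← h1, Ideal.map_comap_of_surjective _ Ideal.Quotient.mk_surjective]
          rcases Ideal.map_eq_top_or_isMaximal_of_surjective (Ideal.Quotient.mk (Module.annihilator R M))
            Ideal.Quotient.mk_surjective (maximalIdeal.isMaximal R) with h | h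
          · exact absurd (this.trans h) hI.ne_top
          · exact this ▸ h
        refine h0.trans ?_
        rw [ht]
        exact_mod_cast Nat.zero_le t
      · haveI := hnt p hp.1.2
        haveI : IsNoetherianRing (Localization.AtPrime p) := IsLocalization.isNoetherianRing p.primeCompl _ inferInstance
        have h1 := (WithBot.coe_le_coe.2 (key p t hne ht)).trans
          (GrothLib.Depth.depth_le_supportDim (Localization.AtPrime p) (LocalizedModule p.primeCompl M))
        by_contra hcon
        rw [ht] at hcon
        have hlt : t < n := by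
          by_contra h; exact hcon (by exact_mod_cast (not_lt.1 h))
        obtain ⟨l, hl⟩ := Order.le_krullDim_iff.1 (le_trans (show ((1 : ℕ) : WithBot ℕ∞) ≤ ((n - t : ℕ) : ℕ∞) by
          rw [WithBot.coe_natCast]; exact_mod_cast (show 1 ≤ n - t by omega)) h1)
        -- but only the maximal ideal is in the support
        have hprime : ∀ Q ∈ Module.support (Localization.AtPrime p) (LocalizedModule p.primeCompl M),
            p ≤ Q.asIdeal.comap (algebraMap R (Localization.AtPrime p)) := by
          intro Q hQ
          refine hp.2 ⟨inferInstance, fun b hb => ?_⟩ fun x hx => ?_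
          · rw [Module.mem_support_iff_of_finite] at hQ
            refine hQ (Module.mem_annihilator.2 fun z => ?_)
            induction z using LocalizedModule.induction_on with
            | h z s => rw [algebraMap_smul, LocalizedModule.smul'_mk, Module.mem_annihilator.1 hb z, LocalizedModule.zero_mk]
          · by_contra hxp
            exact Q.isPrime.ne_top (Ideal.eq_top_of_isUnit_mem _ hx
              (IsLocalization.map_units (Localization.AtPrime p) (⟨x, hxp⟩ : p.primeCompl)))
        have hmax : ∀ Q ∈ Module.support (Localization.AtPrime p) (LocalizedModule p.primeCompl M),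
            Q.asIdeal = maximalIdeal (Localization.AtPrime p) := by
          intro Q hQ
          refine le_antisymm (le_maximalIdeal Q.isPrime.ne_top) ?_
          rw [← Localization.AtPrime.map_eq_maximalIdeal]
          exact Ideal.map_le_iff_le_comap.2 (hprime Q hQ)
        have h01 : l ⟨0, by omega⟩ < l ⟨1, by omega⟩ :=
          l.strictMono (show (⟨0, _⟩ : Fin (l.length + 1)) < ⟨1, _⟩ from Nat.zero_lt_one)
        have h01' : (l ⟨0, by omega⟩).1.asIdeal < (l ⟨1, by omega⟩).1.asIdeal := h01
        rw [hmax _ (l ⟨0, by omega⟩).2, hmax _ (l ⟨1, by omega⟩).2] at h01'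
        exact lt_irrefl _ h01'
    · haveI := hnt p hle
      haveI : IsNoetherianRing (Localization.AtPrime p) := IsLocalization.isNoetherianRing p.primeCompl _ inferInstance
      obtain ⟨t, ht⟩ := GrothLib.HLVT.exists_nat_ringKrullDim_quotient (I := p) (Ideal.IsPrime.ne_top ‹_›)
      refine le_antisymm ?_ (GrothLib.Depth.depth_le_supportDim _ _)
      refine le_trans ?_ (WithBot.coe_le_coe.2 (key p t hne ht))
      rw [WithBot.coe_natCast]
      by_contra hcon
      have h1 := (ENat.WithBot.add_one_le_iff (n := n - t)).2 (not_le.1 hcon)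
      have := hdimle p t ht (n - t + 1) (by push_cast; exact h1)
      omega
  · rintro ⟨hmin, hCM⟩ i hi
    refine (hFL i hi).2 fun p _ hne j hj => ?_
    haveI : IsNoetherianRing (Localization.AtPrime p) := IsLocalization.isNoetherianRing p.primeCompl _ inferInstance
    obtain ⟨t, ht⟩ := GrothLib.HLVT.exists_nat_ringKrullDim_quotient (I := p) (Ideal.IsPrime.ne_top ‹_›)
    by_cases hle : Module.annihilator R M ≤ p
    · obtain ⟨q, hq, hqp⟩ := Ideal.exists_minimalPrimes_le hle
      haveI := hq.1.1
      have h1 := le_dim_localized (A := A) M hsurj hd p q hqp hq.1.2 (hmin q hq) ht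
      have h2 : Module.supportDim (Localization.AtPrime p) (LocalizedModule p.primeCompl M) = _ := hCM p hne hle
      rw [h2, ← WithBot.coe_natCast, WithBot.coe_le_coe] at h1
      refine (GrothLib.Depth.le_idealDepth_iff_H (maximalIdeal (Localization.AtPrime p)) (n - t)).1 h1 j ?_
      rw [ht] at hj
      have : j + t = i := by exact_mod_cast hj
      omega
    · haveI : Subsingleton (LocalizedModule p.primeCompl M) := by
        rw [← not_nontrivial_iff_subsingleton]
        exact fun hnt => hle (Module.mem_support_iff_of_finite.1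
          (show (⟨p, inferInstance⟩ : PrimeSpectrum R) ∈ Module.support R M from Module.mem_support_iff.2 hnt))
      refine GrothLib.LC.subsingleton_of_supportDim_lt j _ _ _ ?_
      rw [Module.supportDim_eq_bot_of_subsingleton]
      exact WithBot.bot_lt_coe _

end GrothLib.CanonMod
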