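import Groth.Agent.Lib.CanonMod.Exist
import Groth.Agent.Lib.CanonMod.Ass
import Groth.Agent.Lib.CanonMod.Reg
import Groth.Agent.Lib.CanonMod.End
import Groth.Agent.Lib.HLVT.CanonSupp
import Groth.Agent.Lib.TorsionFree.Basic
import Mathlib.RingTheory.UniqueFactorizationDomain.Basic

/-! A Cohen-Macaulay factorial quotient of a Gorenstein local ring is Gorenstein. -/

set_option linter.style.haveILetI false

universe u

open IsLocalRing RingTheory.Sequence

namespace GrothLib.CanonMod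

variable {R : Type u} [CommRing R] [IsDomain R]

theorem smul_right_cancel_of_torsionFree [IsNoetherianRing R] {K : Type u} [AddCommGroup K] [Module R K]
    (hass : ∀ q ∈ associatedPrimes R K, q = ⊥) : Module.IsTorsionFree R K := by
  constructor
  intro a ha x y hxy
  by_contra hne
  have ha0 : a ≠ 0 := IsRegular.ne_zero ha
  have h : a ∈ (⋃ p ∈ associatedPrimes R K, (p : Set R)) := by
    rw [biUnion_associatedPrimes_eq_zero_divisors]
    exact ⟨x - y, sub_ne_zero.2 hne, by rw [smul_sub]; exact sub_eq_zero.2 hxy⟩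
  obtain ⟨q, hq, haq⟩ := Set.mem_iUnion₂.1 h
  rw [hass q hq] at haq
  exact ha0 haq

omit [IsDomain R] in
/-- In a UFD an ideal on which coprime pairs stay regular is principal. -/
theorem exists_eq_span_singleton_of_coprime_regular [UniqueFactorizationMonoid R] (J : Ideal R) (hJ : J ≠ ⊥)
    (h : ∀ a b : R, a ≠ 0 → ¬ IsUnit a → ¬ IsUnit b → IsRelPrime a b →
      ∀ x ∈ J, ∀ y ∈ J, b * x = a * y → ∃ z ∈ J, x = a * z) :
    ∃ c : R, c ≠ 0 ∧ J = Ideal.span {c} := by
  obtain ⟨a₀, ha₀⟩ := Submodule.exists_mem_ne_zero_of_ne_bot hJ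
  obtain ⟨a, ⟨haJ, ha0⟩, hmin⟩ :=
    (wellFounded_dvdNotUnit (α := R)).has_min {x : R | x ∈ J ∧ x ≠ 0} ⟨a₀, ha₀⟩
  refine ⟨a, ha0, le_antisymm (fun b hb => ?_) ((Ideal.span_singleton_le_iff_mem J).2 haJ)⟩
  rw [Ideal.mem_span_singleton]
  obtain ⟨a', b', g, hrel, hga, hgb⟩ := UniqueFactorizationMonoid.exists_reduced_factors a ha0 b
  have hg0 : g ≠ 0 := fun hg => ha0 (by rw [← hga, hg, zero_mul])
  have ha'0 : a' ≠ 0 := fun hz => ha0 (by rw [← hga, hz, mul_zero])
  by_cases hau : IsUnit a'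
  · rw [← hga, ← hgb]
    exact mul_dvd_mul_left g (hau.dvd)
  exfalso
  have hnot : ∀ x ∈ J, x * a' = a → False := fun x hx hxa =>
    hmin x ⟨hx, fun hz => ha0 (by rw [← hxa, hz, zero_mul])⟩
      ⟨fun hz => ha0 (by rw [← hxa, hz, zero_mul]), a', hau, hxa.symm⟩
  by_cases hbu : IsUnit b'
  · obtain ⟨u, rfl⟩ := hbu
    refine hnot g ?_ hga
    have := J.mul_mem_right (↑u⁻¹ : R) hb
    rwa [← hgb, mul_assoc, u.mul_inv, mul_one] at this
  obtain ⟨z, hz, hz'⟩ := h a' b' ha'0 hau hbu hrel a haJ b hb (by rw [← hga, ← hgb]; ring)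
  exact hnot z hz (by rw [hz', mul_comm])

/-- A canonical module of a Cohen-Macaulay local domain is isomorphic to a nonzero ideal. -/
theorem exists_injective_to_ring [LocCoh.IsCohenMacaulayLocalRing R] {n : ℕ} (hn : ringKrullDim R = n) {E : Type u}
    [AddCommGroup E] [Module R E] {f : ResidueField R →ₗ[R] E} (hf : InjHull.IsInjectiveHull f) {K : Type u}
    [AddCommGroup K] [Module R K] [Module.Finite R K] (eK : (K →ₗ[R] E) ≃ₗ[R] LocCoh.H (maximalIdeal R) n R) :
    ∃ φ : K →ₗ[R] R, Function.Injective φ ∧ LinearMap.range φ ≠ ⊥ := by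
  haveI hnt := nontrivial_canonical hn hf eK
  have hass : ∀ q ∈ associatedPrimes R K, q = ⊥ := by
    intro q hq
    obtain ⟨hqp, hqd⟩ := (mem_associatedPrimes_iff hn hf eK q).1 hq
    haveI := hqp
    have h1 := GrothLib.HLVT.height_add_dim_quotient_le q
    rw [hqd, hn] at h1
    obtain ⟨a, ha⟩ := ENat.ne_top_iff_exists.1 (Ideal.height_ne_top (I := q) hqp.ne_top)
    rw [← ha] at h1
    have ha0 : a + n ≤ n := by exact_mod_cast h1
    have hq0 : q.height = 0 := by rw [← ha, show a = 0 by omega]; rfl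
    rw [Ideal.height_eq_zero_iff, IsDomain.minimalPrimes_eq_singleton_bot] at hq0
    exact hq0
  haveI := smul_right_cancel_of_torsionFree hass
  obtain ⟨m, ι, hι⟩ := GrothLib.exists_injective_pi_of_isTorsionFree R K
  obtain ⟨v, hv⟩ := exists_ne (0 : K)
  obtain ⟨i, hi⟩ := Function.ne_iff.1 (show ι v ≠ 0 from fun h => hv (hι (h.trans (map_zero ι).symm)))
  let φ : K →ₗ[R] R := LinearMap.proj i ∘ₗ ι
  have hφ : φ v ≠ 0 := hi
  have hφi : Function.Injective φ := (injective_iff_map_eq_zero φ).2 fun w hw => by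
    obtain ⟨r, hr⟩ := (toEnd_bijective hn hf eK).2 (φ.smulRight w)
    have h1 : r • v = φ v • w := LinearMap.congr_fun hr v
    have h2 := congrArg φ h1
    rw [map_smul, map_smul, hw, smul_zero, smul_eq_mul, mul_eq_zero] at h2
    rw [h2.resolve_right hφ, zero_smul] at h1
    exact (smul_eq_zero.1 h1.symm).resolve_left hφ
  exact ⟨φ, hφi, fun h => hφ (by simpa [h] using (LinearMap.mem_range_self φ v))⟩

/-- A Cohen-Macaulay factorial quotient of a Gorenstein local ring is Gorenstein. -/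
theorem gorenstein_of_ufd_cm (A : Type u) [CommRing A] [LocCoh.IsGorensteinLocalRing A]
    [UniqueFactorizationMonoid R] [LocCoh.IsCohenMacaulayLocalRing R] [Algebra A R]
    (hsurj : Function.Surjective (algebraMap A R)) (n : ℕ) (hn : ringKrullDim R = n) :
    LocCoh.IsGorensteinLocalRing R := by
  obtain ⟨E, _, _, f, hf⟩ := GrothLib.InjMod.exists_injective_hull (R := R) (ResidueField R)
  obtain ⟨K, hK, ⟨eK⟩⟩ := exists_canonMod A R hsurj n hn E f hf
  haveI := hK
  obtain ⟨φ, hφi, hJ⟩ := exists_injective_to_ring hn hf eK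
  let J : Ideal R := LinearMap.range φ
  obtain ⟨c, hc, hcJ⟩ := exists_eq_span_singleton_of_coprime_regular J hJ fun a b ha hau hbu hab x hx y hy hxy => by
    obtain ⟨x', rfl⟩ := hx
    obtain ⟨y', rfl⟩ := hy
    have hwR : IsWeaklyRegular R [a, b] := by
      rw [isWeaklyRegular_cons_iff]
      refine ⟨(IsRegular.of_ne_zero ha).left, ?_⟩
      rw [isWeaklyRegular_singleton_iff, isSMulRegular_iff_right_eq_zero_of_smul]
      intro z hz
      obtain ⟨z, rfl⟩ := Submodule.Quotient.mk_surjective _ z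
      rw [← Submodule.Quotient.mk_smul, Submodule.Quotient.mk_eq_zero, Submodule.mem_smul_pointwise_iff_exists] at hz
      obtain ⟨w, -, hw⟩ := hz
      obtain ⟨t, ht⟩ := hab.dvd_of_dvd_mul_left (show a ∣ b * z from ⟨w, hw.symm⟩)
      exact (Submodule.Quotient.mk_eq_zero _).2 ((Submodule.mem_smul_pointwise_iff_exists _ _ _).2 ⟨t, trivial, ht.symm⟩)
    have hwK := (isWeaklyRegular_iff hn hf eK [a, b] (by simp [mem_maximalIdeal, hau, hbu])).1 hwR
    rw [isWeaklyRegular_cons_iff, isWeaklyRegular_singleton_iff] at hwK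
    have h1 : b • x' = a • y' := hφi (by rw [map_smul, map_smul]; exact hxy)
    have h2 := isSMulRegular_iff_right_eq_zero_of_smul.1 hwK.2 (Submodule.Quotient.mk x') (by
      rw [← Submodule.Quotient.mk_smul, Submodule.Quotient.mk_eq_zero, Submodule.mem_smul_pointwise_iff_exists]
      exact ⟨y', trivial, h1.symm⟩)
    rw [Submodule.Quotient.mk_eq_zero, Submodule.mem_smul_pointwise_iff_exists] at h2
    obtain ⟨z', -, hz'⟩ := h2
    exact ⟨φ z', LinearMap.mem_range_self φ z', by rw [← hz', map_smul, smul_eq_mul]⟩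
  obtain ⟨eJ⟩ : Nonempty (K ≃ₗ[R] R) :=
    ⟨(LinearEquiv.ofInjective φ hφi).trans ((LinearEquiv.ofEq _ _ hcJ).trans
      (LinearEquiv.toSpanNonzeroSingleton R R c hc).symm)⟩
  haveI := hasInjectiveDimensionLT hn hf eK
  have : CategoryTheory.HasInjectiveDimensionLT (ModuleCat.of R R) (n + 1) :=
    CategoryTheory.hasInjectiveDimensionLT_of_iso eJ.toModuleIso (n + 1)
  exact { exists_hasInjectiveDimensionLT := ⟨n + 1, this⟩ }

end GrothLib.CanonMod
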