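import Groth.Agent.Lib.CanonMod.UFD
import Groth.Agent.Lib.CanonMod.SerreTwo

/-! A canonical module of a Cohen-Macaulay domain as an unmixed ideal of height one. -/

set_option linter.style.haveILetI false

universe u

open CategoryTheory IsLocalRing RingTheory.Sequence
open scoped Pointwise

namespace GrothLib.CanonMod

variable {R : Type u} [CommRing R] [IsDomain R] [LocCoh.IsCohenMacaulayLocalRing R]

/-- A canonical module is the ring or an unmixed ideal of height one. -/
theorem exists_unmixed_ideal {n : ℕ} (hn : ringKrullDim R = n) {E : Type u}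
    [AddCommGroup E] [Module R E] {f : ResidueField R →ₗ[R] E} (hf : InjHull.IsInjectiveHull f) {K : Type u}
    [AddCommGroup K] [Module R K] [Module.Finite R K] (eK : (K →ₗ[R] E) ≃ₗ[R] LocCoh.H (maximalIdeal R) n R) :
    Nonempty (K ≃ₗ[R] R) ∨ ∃ I : Ideal R, I ≠ ⊤ ∧ (∀ q ∈ associatedPrimes R (R ⧸ I), q.height = 1) ∧
      Nonempty (K ≃ₗ[R] I) := by
  obtain ⟨φ, hφi, hJ⟩ := exists_injective_to_ring hn hf eK
  let I : Ideal R := LinearMap.range φ
  let e : K ≃ₗ[R] I := LinearEquiv.ofInjective φ hφi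
  by_cases htop : I = ⊤
  · exact Or.inl ⟨e.trans ((LinearEquiv.ofEq _ _ htop).trans Submodule.topEquiv)⟩
  refine Or.inr ⟨I, htop, fun q hq => ?_, ⟨e⟩⟩
  haveI := hq.isPrime
  obtain ⟨-, v, hv⟩ := isAssociatedPrime_iff.1 hq
  obtain ⟨x, rfl⟩ := Submodule.Quotient.mk_surjective _ v
  have hmem : ∀ a, a ∈ q ↔ a * x ∈ I := fun a => by
    rw [hv, Submodule.mem_colon_singleton, Submodule.mem_bot, ← Submodule.Quotient.mk_smul,
      Submodule.Quotient.mk_eq_zero, smul_eq_mul]
  have hxI : x ∉ I := fun h => hq.isPrime.ne_top ((Ideal.eq_top_iff_one q).2 ((hmem 1).2 (by rwa [one_mul])))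
  have hIq : I ≤ q := fun a ha => (hmem a).2 (I.mul_mem_right x ha)
  have hpos : q.height ≠ 0 := fun h0 => by
    rw [Ideal.height_eq_zero_iff, IsDomain.minimalPrimes_eq_singleton_bot] at h0
    exact hJ (le_bot_iff.1 (hIq.trans (le_of_eq h0)))
  refine le_antisymm ?_ (Order.one_le_iff_ne_zero.2 hpos)
  by_contra hh
  obtain ⟨g, hg⟩ := ENat.ne_top_iff_exists.1 (Ideal.height_ne_top (I := q) hq.isPrime.ne_top)
  obtain ⟨t, ht⟩ := GrothLib.HLVT.exists_nat_ringKrullDim_quotient (I := q) hq.isPrime.ne_top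
  have hsum := height_add_dim_quotient q hq.isPrime.ne_top hg.symm ht hn
  have hg2 : 2 ≤ g := by
    rw [← hg] at hh
    by_contra hc
    exact hh (by exact_mod_cast (show g ≤ 1 by omega))
  obtain ⟨a, haq, ha, hb⟩ := exists_regular_pair hn hf eK q (by
    rw [ht]; exact_mod_cast (show t + 1 ≤ n by omega))
  obtain ⟨b, hbq, hab⟩ := hb (by rw [ht]; exact_mod_cast (show t + 2 ≤ n by omega))
  rw [isWeaklyRegular_cons_iff, isWeaklyRegular_singleton_iff] at hab
  obtain ⟨k, hk⟩ := (hmem a).1 haq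
  obtain ⟨l, hl⟩ := (hmem b).1 hbq
  have h1 : b • k = a • l := hφi (by rw [map_smul, map_smul, hk, hl, smul_eq_mul, smul_eq_mul]; ring)
  have h2 := isSMulRegular_iff_right_eq_zero_of_smul.1 hab.2 (Submodule.Quotient.mk k) (by
    rw [← Submodule.Quotient.mk_smul, Submodule.Quotient.mk_eq_zero, h1]
    exact Submodule.smul_mem_pointwise_smul l a ⊤ Submodule.mem_top)
  rw [Submodule.Quotient.mk_eq_zero, Submodule.mem_smul_pointwise_iff_exists] at h2
  obtain ⟨w, -, hw⟩ := h2
  have h3 := congrArg φ hw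
  rw [map_smul, hk, smul_eq_mul] at h3
  have ha0 : a ≠ 0 := fun h0 => by
    haveI := nontrivial_canonical hn hf eK
    obtain ⟨y, hy⟩ := exists_ne (0 : K)
    exact hy (isSMulRegular_iff_right_eq_zero_of_smul.1 ha y (by rw [h0, zero_smul]))
  exact hxI ⟨w, mul_left_cancel₀ ha0 h3⟩

end GrothLib.CanonMod
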